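import Cfsg.Agent.CoMult35.Check
import Cfsg.Agent.SporStruct.OuterCo3
import Cfsg.Agent.Lib.Golay.Mult.M23
import Cfsg.Agent.Lib.Golay.Mult.Lift

/-!
# Elements of Co₃ with given tables, and the copy of M₂₃
-/

set_option autoImplicit false
set_option maxRecDepth 100000

namespace Cfsg.Agent.CoMult35

open Cfsg Cfsg.Agent.Leech Cfsg.Agent.SporStruct CoMatrix
open Cfsg.Agent.Golay (Tab pt idx idx_pt permOf tab_permOf tab_one tab_unique idTab comp)
open Cfsg.Agent.Golay.Mult (tab_coe_mul eq_of_tab)
open Cfsg.Agent.SporStruct.OuterCo3 (emb emb_injective range_iff card_Co3)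

universe u

theorem finite_Co3 : Finite ↥Spor.Co3 := OuterCommon.finiteOfInj emb_injective

theorem std48_table : vecL (std48 : GolayPt → ℤ) = OuterBig.infL 5 := OuterBig.vecL_infL.1

theorem exists_co3 {T : List (List ℤ)} (h : checkElem T = true) :
    ∃ x : ↥Spor.Co3, rows (emb x) = T := by
  simp only [checkElem, Bool.and_eq_true, beq_iff_eq] at h
  obtain ⟨y, hy⟩ := exists_elem h.1.1 h.1.2
  obtain ⟨x, hx⟩ := (range_iff y).2
    (Subtype.ext (vecL_inj (by rw [← mapV_rows, hy, std48_table, h.2])))
  exact ⟨x, by rw [hx, hy]⟩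

theorem M23_le : Spor.M23 ≤ M24 := fun _ h => (OuterCommon.mem_M23.1 h).1

theorem exists_j (σ : Spor.M23) :
    ∃ x : ↥Spor.Co3, emb x = permHom ⟨σ.1, M23_le σ.2⟩ :=
  (range_iff _).2 (OuterBig.perm_fix_V (t := 5) (Or.inl ⟨rfl, rfl⟩) (OuterCommon.mem_M23.1 σ.2).2)

/-- The copy of M₂₃ in Co₃. -/
noncomputable def j : Spor.M23 →* ↥Spor.Co3 :=
  MonoidHom.mk' (fun σ => (exists_j σ).choose) fun a b => emb_injective (by
    rw [map_mul, (exists_j (a * b)).choose_spec, (exists_j a).choose_spec, (exists_j b).choose_spec,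
      ← map_mul]
    rfl)

theorem emb_j (σ : Spor.M23) : emb (j σ) = permHom ⟨σ.1, M23_le σ.2⟩ := (exists_j σ).choose_spec

theorem j_injective : Function.Injective j := fun a b h => by
  have h' := congrArg emb h
  rw [emb_j, emb_j] at h'
  exact Subtype.ext (congrArg (fun z : M24 => z.1) (permHom_injective h') :)

theorem j_frame (σ : Spor.M23) : emb (j σ) • frame none = frame none := by
  rw [emb_j]
  refine Subtype.ext (funext fun p => ?_)
  rw [coe_permHom_smul]
  show (Pi.single none (8 : ℤ) : GolayPt → ℤ) _ = (Pi.single none (8 : ℤ) : GolayPt → ℤ) p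
  simp only [Pi.single_apply]
  exact if_congr (by rw [Equiv.symm_apply_eq, (OuterCommon.mem_M23.1 σ.2).2]) rfl rfl

theorem exists_perm {l : List ℕ} (h : checkPerm l = true) : ∃ σ : Spor.M23, Tab σ.1 l := by
  simp only [checkPerm, Bool.and_eq_true, beq_iff_eq] at h
  obtain ⟨⟨⟨hp, hc⟩, h23⟩, -⟩ := h
  refine ⟨⟨permOf l hp, OuterCommon.mem_M23.2 ⟨(tab_permOf hp).mem_M24 hc, ?_⟩⟩, tab_permOf hp⟩
  exact (tab_permOf hp).apply_pt (i := 23) (j := 23) (by norm_num) h23

theorem tab_word {F : List Spor.M23} {gs : List (List ℕ)}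
    (h : ∀ i, Tab (F.getD i 1).1 (gs.getD i idTab)) :
    ∀ w : List ℕ, Tab (word F w).1 (wordTab gs w)
  | [] => tab_one
  | i :: w => tab_coe_mul (h i) (tab_word h w)

/-- The section over M₂₃. -/
theorem exists_section {E : Type} [Group E] (σ : E →* ↥Spor.Co3) (hσ : Function.Surjective σ)
    (hc : σ.ker ≤ Subgroup.center E) : ∃ s : Spor.M23 →* E, ∀ y, σ (s y) = j y := by
  set R := j.range with hR
  let e : Spor.M23 ≃* R := MonoidHom.ofInjective j_injective
  let τ : R.comap σ →* Spor.M23 := e.symm.toMonoidHom.comp (σ.subgroupComap R)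
  have hτs : Function.Surjective τ :=
    e.symm.surjective.comp (σ.subgroupComap_surjective_of_surjective R hσ)
  have hτk : ∀ x, τ x = 1 → σ x.1 = 1 := fun x hx => by
    have h1 : (σ.subgroupComap R) x = 1 := e.symm.injective (hx.trans (map_one _).symm)
    exact congrArg Subtype.val h1
  have hbot := Cfsg.Agent.Schur.ker_inf_commutator_eq_bot
    Cfsg.Agent.Golay.Mult.hasCyclicSchurMultiplier_M23 τ hτs fun x hx => by
      rw [Subgroup.mem_center_iff]
      exact fun y => Subtype.ext (Subgroup.mem_center_iff.1 (hc (hτk x hx)) y.1)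
  haveI := Cfsg.Agent.Golay.isSimpleGroup_M23
  have hperf : Group.IsPerfect Spor.M23 :=
    Cfsg.Agent.Golay.Mult.isPerfect_of_simple (by rw [Cfsg.Agent.Golay.card_M23]; norm_num)
  set D := commutator (R.comap σ) with hD
  have hbij : Function.Bijective (τ.comp D.subtype) := by
    refine ⟨(injective_iff_map_eq_one _).2 fun x hx => ?_, fun y => ?_⟩
    · have : x.1 ∈ τ.ker ⊓ D := ⟨hx, x.2⟩
      rw [hbot, Subgroup.mem_bot] at this
      exact Subtype.ext this
    · have hmap : D.map τ = ⊤ := by
        rw [hD, commutator_def, Subgroup.map_commutator, Subgroup.map_top_of_surjective τ hτs,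
          ← commutator_def]
        exact eq_top_iff.2 fun z _ => Group.IsPerfect.mem_commutator (hP := hperf)
      obtain ⟨l, hl, el⟩ := hmap.ge (Subgroup.mem_top y)
      exact ⟨⟨l, hl⟩, el⟩
  let b : D ≃* Spor.M23 := MulEquiv.ofBijective _ hbij
  refine ⟨(R.comap σ).subtype.comp (D.subtype.comp b.symm.toMonoidHom), fun y => ?_⟩
  have h1 : τ (b.symm y).1 = y := b.apply_symm_apply y
  have h2 : (σ.subgroupComap R) (b.symm y).1 = e y := by
    apply e.symm.injective
    rw [e.symm_apply_apply]
    exact h1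
  exact congrArg Subtype.val h2

theorem exists_lift_list {α β : Type*} (f : α → β) (good : β → Bool) (hg : ∀ b, good b = true → ∃ a, f a = b) :
    ∀ B : List β, B.all good = true → ∃ A : List α, A.map f = B
  | [], _ => ⟨[], rfl⟩
  | b :: B, h => by
    rw [List.all_cons, Bool.and_eq_true] at h
    obtain ⟨a, ha⟩ := hg b h.1
    obtain ⟨A, hA⟩ := exists_lift_list f good hg B h.2
    exact ⟨a :: A, by rw [List.map_cons, ha, hA]⟩

theorem exists_perm_list : ∀ B : List (List ℕ), B.all checkPerm = true →
    ∃ F : List Spor.M23, F.length = B.length ∧ ∀ i, Tab (F.getD i 1).1 (B.getD i idTab)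
  | [], _ => ⟨[], rfl, fun i => by simpa using tab_one⟩
  | b :: B, h => by
    rw [List.all_cons, Bool.and_eq_true] at h
    obtain ⟨a, ha⟩ := exists_perm h.1
    obtain ⟨F, hl, hF⟩ := exists_perm_list B h.2
    refine ⟨a :: F, by simp [hl], fun i => ?_⟩
    cases i with
    | zero => simpa using ha
    | succ i => simpa using hF i

/-- The elements used. -/
structure Elems where
  L : List ↥Spor.Co3
  F : List Spor.M23
  hL : (L.map emb).map rows = allTabs
  hF : ∀ i, Tab (F.getD i 1).1 (perms.getD i idTab)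
  hFL : ∀ i < 8, j (F.getD i 1) = L.getD (24 + i) 1

theorem nonempty_elems : Nonempty Elems := by
  obtain ⟨F, hlen, hF⟩ := exists_perm_list perms perms_check.1
  obtain ⟨A, hA⟩ := exists_lift_list (fun x => rows (emb x)) checkElem (fun _ h => exists_co3 h)
    elems elems_check
  have hperm : ∀ i, rows (emb (j (F.getD i 1))) = permMat (perms.getD i idTab) := fun i => by
    rw [emb_j]; exact rows_permHom (hF i)
  have hB : (F.map fun σ => rows (emb (j σ))) = perms.map permMat := by
    refine List.ext_getElem (by simp [hlen]) fun i h1 h2 => ?_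
    rw [List.length_map] at h1 h2
    have := hperm i
    rw [List.getD_eq_getElem _ _ h1, List.getD_eq_getElem _ _ h2] at this
    simpa using this
  have hL : ((A ++ F.map j).map emb).map rows = allTabs := by
    rw [List.map_map, List.map_append, List.map_map, allTabs, ← hA, ← hB]
    rfl
  refine ⟨⟨A ++ F.map j, F, hL, hF, fun i hi => ?_⟩⟩
  have hAlen : A.length = 24 := by
    have := congrArg List.length hA
    simpa [elems] using this
  rw [List.getD_append_right _ _ _ _ (by omega), hAlen, show 24 + i - 24 = i by omega,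
    ← map_one j, List.getD_map]

end Cfsg.Agent.CoMult35
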