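import Cfsg.Agent.CoMult35.CheckDefs

/-!
# The tables 8–15 are tables of elements of Co₃
-/

set_option autoImplicit false

namespace Cfsg.Agent.CoMult35

theorem el8_check : checkElem el8 = true := by decide +kernel

theorem el9_check : checkElem el9 = true := by decide +kernel

theorem el10_check : checkElem el10 = true := by decide +kernel

theorem el11_check : checkElem el11 = true := by decide +kernel

theorem el12_check : checkElem el12 = true := by decide +kernel

theorem el13_check : checkElem el13 = true := by decide +kernel

theorem el14_check : checkElem el14 = true := by decide +kernel

theorem el15_check : checkElem el15 = true := by decide +kernel

end Cfsg.Agent.CoMult35
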