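import Cfsg.Agent.CoMult35.CheckDefs

/-!
# The tables 16–23 are tables of elements of Co₃
-/

set_option autoImplicit false

namespace Cfsg.Agent.CoMult35

theorem el16_check : checkElem el16 = true := by decide +kernel

theorem el17_check : checkElem el17 = true := by decide +kernel

theorem el18_check : checkElem el18 = true := by decide +kernel

theorem el19_check : checkElem el19 = true := by decide +kernel

theorem el20_check : checkElem el20 = true := by decide +kernel

theorem el21_check : checkElem el21 = true := by decide +kernel

theorem el22_check : checkElem el22 = true := by decide +kernel

theorem el23_check : checkElem el23 = true := by decide +kernel

end Cfsg.Agent.CoMult35
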