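import Cfsg.Agent.CoMult35.ElemsCheck0
import Cfsg.Agent.CoMult35.ElemsCheck1
import Cfsg.Agent.CoMult35.ElemsCheck2

/-!
# Kernel checks on the tables for the Schur multiplier of Co₃
-/

set_option autoImplicit false

namespace Cfsg.Agent.CoMult35

open Cfsg.Agent.SporStruct CoMatrix
open Cfsg.Agent.Golay (idTab comp powTab isPermTab checkAut)
open Cfsg.Agent.Golay.Mult (allProd)

theorem elems_check : elems.all checkElem = true := by
  simp only [elems, List.all_cons, List.all_nil, Bool.and_true, Bool.and_eq_true]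
  exact ⟨el0_check, el1_check, el2_check, el3_check, el4_check, el5_check, el6_check, el7_check, el8_check, el9_check, el10_check, el11_check, el12_check, el13_check, el14_check, el15_check, el16_check, el17_check, el18_check, el19_check, el20_check, el21_check, el22_check, el23_check⟩

theorem perms_check : perms.all checkPerm = true ∧ perms.length = 8 ∧
    powTab (perms.getD 0 []) 5 = idTab ∧ powTab (perms.getD 1 []) 3 = idTab ∧
    comp (perms.getD 7 []) (perms.getD 7 []) = idTab ∧
    (∀ i < 4, wordTab kGens (permWords.getD i []) = perms.getD (3 + i) []) := by decide +kernel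

theorem coset_check : reps.length = 7 ∧ ∀ g < 3, ∀ r < 7,
    ((cosetAct.getD g []).getD r (0, [])).1 < 7 ∧
    comp (perms.getD g []) (reps.getD r []) =
      comp (reps.getD ((cosetAct.getD g []).getD r (0, [])).1 [])
        (wordTab (perms.take 2) ((cosetAct.getD g []).getD r (0, [])).2) := by decide +kernel

theorem syl_check :
    (allProd sylTabs).all (fun e => sylTabs.all fun t => (allProd sylTabs).contains (comp e t)) = true ∧
      (allProd sylTabs).Nodup ∧ (allProd sylTabs).all (fun e => e.length == 24) = true ∧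
      (allProd sylTabs).contains idTab = true ∧ (allProd sylTabs).length = 128 := by decide +kernel

theorem rels_check : relOK relsTwo = true ∧ relOK relsThree = true ∧ relOK relsFive = true ∧
    relOK relsFive' = true ∧ evalP allTabs comm5 ≠ idMat := by decide +kernel

theorem clique_check :
    cliqueWords.map (fun w => evalPV allTabs w (unitL 23)) = clique ∧ clique.Nodup ∧
    clique.length = 8 ∧ cliqueWords.getD 0 [1] = [] ∧
    (∀ w ∈ cliqueWords, ∀ i ∈ w, i ∈ [0, 24, 25, 26]) ∧
    ([0, 24, 25, 26].all fun i => cliqueWords.all fun w =>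
      clique.contains (evalPV allTabs (i :: w) (unitL 23))) = true ∧
    evalPV allTabs [0] (unitL 23) ≠ unitL 23 := by decide +kernel

theorem three_check :
    (aWords.map fun w => evalPV allTabs w (unitL 0)).Nodup ∧
    (rWords.map fun w => evalPV allTabs w (unitL 0)).Nodup ∧
    (∀ w ∈ aWords, ∀ i ∈ w, 2 ≤ i ∧ i < 7) ∧ (∀ w ∈ rWords, ∀ i ∈ w, i = 8 ∨ i = 9) := by
  decide +kernel

set_option synthInstance.maxSize 1024 in
theorem three_pattern :
    (∀ i < 5, ([2 + i, 2 + i, 2 + i], []) ∈ relsThree ∧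
      ([7, 2 + i], [2 + i, 2 + i, 7]) ∈ relsThree) ∧
    (∀ r < 2, ([8 + r, 8 + r, 8 + r], []) ∈ relsThree ∧ ([7, 8 + r], [8 + r, 7]) ∈ relsThree) ∧
    (∀ i < 5, ∀ j < 5, i < j → ([2 + i, 2 + j], [2 + j, 2 + i]) ∈ relsThree ∧
      ∃ k < 10, ([11 + k, 2 + i], [2 + j, 11 + k]) ∈ relsThree ∧
        ([11 + k, 2 + j], [2 + i, 11 + k]) ∈ relsThree) ∧
    ([8, 9], [9, 8]) ∈ relsThree ∧ ([10, 8], [8, 8, 10]) ∈ relsThree ∧
    ([10, 9], [9, 10]) ∈ relsThree ∧
    (∀ r < 2, ∀ i < 5, ∃ p ∈ relsThree, p.1 = [8 + r, 2 + i] ∧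
      p.2 = p.2.dropLast ++ [8 + r] ∧ ∀ e ∈ p.2.dropLast, 2 ≤ e ∧ e < 7) := by
  decide +kernel

end Cfsg.Agent.CoMult35
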