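import Cfsg.Agent.CoMult35.Data
import Cfsg.Agent.SporStruct.OuterBig
import Cfsg.Agent.Lib.Golay.Mult.Tables

/-!
# Checks on the tables for the Schur multiplier of Co₃
-/

set_option autoImplicit false

namespace Cfsg.Agent.CoMult35

open Cfsg.Agent.SporStruct CoMatrix
open Cfsg.Agent.Golay (idTab comp powTab isPermTab checkAut)
open Cfsg.Agent.Golay.Mult (allProd)

/-- All tables. -/
def allTabs : List (List (List ℤ)) := elems ++ perms.map permMat

/-- The product of a word in given permutation tables. -/
def wordTab (gs : List (List ℕ)) (w : List ℕ) : List ℕ :=
  w.foldr (fun i acc => comp (gs.getD i idTab) acc) idTab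

/-- The checks for an element of Co₃. -/
def checkElem (T : List (List ℤ)) : Bool :=
  checkMap T && checkMap (transpL T) && (mapV T (OuterBig.infL 5) == OuterBig.infL 5)

/-- The checks for an element of M₂₃. -/
def checkPerm (l : List ℕ) : Bool :=
  isPermTab l && checkAut l && (l.getD 23 0 == 23) && (l.length == 24)

/-- The checks on relations. -/
noncomputable def relOK (rels : List (List ℕ × List ℕ)) : Bool :=
  rels.all fun r => evalP allTabs r.1 == evalP allTabs r.2

/-- The three generators of the heptad stabiliser. -/
def kGens : List (List ℕ) := perms.take 3

/-- The coset representatives. -/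
def reps : List (List ℕ) :=
  idTab :: repWords.map fun w => comp (wordTab (perms.take 2) w) (perms.getD 2 [])

/-- The generators of a Sylow 2-subgroup. -/
def sylTabs : List (List ℕ) := sylWords.map (wordTab kGens)

/-- The commutator of the elements of order 5. -/
def comm5 : List ℕ := [21, 22, 21, 21, 21, 21, 22, 22, 22, 22]

/-- Further relations for the elements of order 5. -/
def relsFive' : List (List ℕ × List ℕ) :=
  [21, 22, 23].map fun i => (comm5 ++ [i], i :: comm5)

/-- The 243 words in the five generators of the inverted subgroup. -/
def aWords : List (List ℕ) :=
  (List.range 243).map fun n =>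
    ((List.range 5).map fun i => List.replicate (n / 3 ^ i % 3) (2 + i)).flatten

/-- The 9 words in the two centralised generators. -/
def rWords : List (List ℕ) :=
  (List.range 9).map fun n => List.replicate (n % 3) 8 ++ List.replicate (n / 3) 9

end Cfsg.Agent.CoMult35
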