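import Cfsg.Agent.Lib.Golay.Simple
/-!
Tables for elements of Co₃ used to bound its Schur multiplier.
-/

set_option autoImplicit false

namespace Cfsg.Agent.CoMult35

/-- Element 0. -/
def el0 : List (List ℤ) :=
  [[6, 2, 0, 0, 0, 0, 0, 0, 0, 0, 0, 0, 0, 2, 0, 2, 0, 2, 2, 2, 0, 0, 0, -2],
    [2, 6, 0, 0, 0, 0, 0, 0, 0, 0, 0, 0, 0, -2, 0, -2, 0, -2, -2, -2, 0, 0, 0, 2],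
    [0, 0, 2, -2, 2, -2, 2, -2, 2, 2, -2, 2, 2, 0, 2, 0, 2, 0, 0, 0, -2, -2, 2, 0],
    [0, 0, -2, 2, 2, 2, 2, -2, -2, 2, -2, 2, 2, 0, -2, 0, -2, 0, 0, 0, 2, 2, 2, 0],
    [0, 0, 2, 2, 2, 2, -2, -2, -2, -2, 2, -2, 2, 0, 2, 0, 2, 0, 0, 0, -2, 2, 2, 0],
    [0, 0, -2, 2, 2, 2, 2, 2, 2, 2, 2, -2, 2, 0, -2, 0, 2, 0, 0, 0, -2, -2, -2, 0],
    [0, 0, 2, 2, -2, 2, 2, 2, -2, 2, -2, 2, -2, 0, 2, 0, 2, 0, 0, 0, -2, 2, -2, 0],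
    [0, 0, -2, -2, -2, 2, 2, 2, -2, -2, 2, 2, 2, 0, 2, 0, 2, 0, 0, 0, 2, -2, 2, 0],
    [0, 0, 2, -2, -2, 2, -2, -2, 2, 2, 2, 2, 2, 0, -2, 0, 2, 0, 0, 0, 2, 2, -2, 0],
    [0, 0, 2, 2, -2, 2, 2, -2, 2, 2, 2, -2, -2, 0, 2, 0, -2, 0, 0, 0, 2, -2, 2, 0],
    [0, 0, -2, -2, 2, 2, -2, 2, 2, 2, 2, 2, -2, 0, 2, 0, -2, 0, 0, 0, -2, 2, 2, 0],
    [0, 0, 2, 2, -2, -2, 2, 2, 2, -2, 2, 2, 2, 0, -2, 0, -2, 0, 0, 0, -2, 2, 2, 0],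
    [0, 0, 2, 2, 2, 2, -2, 2, 2, -2, -2, 2, 2, 0, 2, 0, -2, 0, 0, 0, 2, -2, -2, 0],
    [2, -2, 0, 0, 0, 0, 0, 0, 0, 0, 0, 0, 0, 6, 0, -2, 0, -2, -2, -2, 0, 0, 0, 2],
    [0, 0, 2, -2, 2, -2, 2, 2, -2, 2, 2, -2, 2, 0, 2, 0, -2, 0, 0, 0, 2, 2, -2, 0],
    [2, -2, 0, 0, 0, 0, 0, 0, 0, 0, 0, 0, 0, -2, 0, -2, 0, -2, -2, 6, 0, 0, 0, 2],
    [0, 0, 2, -2, 2, 2, 2, 2, 2, -2, -2, -2, -2, 0, -2, 0, 2, 0, 0, 0, 2, 2, 2, 0],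
    [2, -2, 0, 0, 0, 0, 0, 0, 0, 0, 0, 0, 0, -2, 0, -2, 0, 6, -2, -2, 0, 0, 0, 2],
    [2, -2, 0, 0, 0, 0, 0, 0, 0, 0, 0, 0, 0, -2, 0, -2, 0, -2, 6, -2, 0, 0, 0, 2],
    [2, -2, 0, 0, 0, 0, 0, 0, 0, 0, 0, 0, 0, -2, 0, 6, 0, -2, -2, -2, 0, 0, 0, 2],
    [0, 0, -2, 2, -2, -2, -2, 2, 2, 2, -2, -2, 2, 0, 2, 0, 2, 0, 0, 0, 2, 2, 2, 0],
    [0, 0, -2, 2, 2, -2, 2, -2, 2, -2, 2, 2, -2, 0, 2, 0, 2, 0, 0, 0, 2, 2, -2, 0],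
    [0, 0, 2, 2, 2, -2, -2, 2, -2, 2, 2, 2, -2, 0, -2, 0, 2, 0, 0, 0, 2, -2, 2, 0],
    [-2, 2, 0, 0, 0, 0, 0, 0, 0, 0, 0, 0, 0, 2, 0, 2, 0, 2, 2, 2, 0, 0, 0, 6]]

/-- Element 1. -/
def el1 : List (List ℤ) :=
  [[2, -2, -2, 0, 0, -2, -2, 0, -2, 0, 2, 0, 0, 0, 2, 2, -4, 0, 2, 2, 0, 0, 0, 2],
    [0, 0, 0, 2, 2, 0, 0, -2, 0, 2, 0, -2, -2, -2, 0, 0, 2, -2, 4, 0, 2, 2, 2, 0],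
    [0, 4, 0, 2, 2, 0, 0, 2, 0, 2, 0, -2, -2, 2, 0, 0, -2, 2, 0, 0, -2, 2, -2, 0],
    [-2, 2, 2, -4, 0, -2, -2, 0, 2, 0, 2, 0, 0, 0, 2, -2, 0, 0, 2, -2, 0, 0, 0, 2],
    [0, 0, 0, 2, -2, 0, 0, 2, 0, 2, 4, -2, 2, 2, 0, 0, 2, -2, 0, 0, -2, -2, 2, 0],
    [2, 2, 2, 0, 0, 2, 2, 0, 2, -4, 2, 0, 0, 0, 2, 2, 0, 0, 2, 2, 0, 0, 0, -2],
    [-2, 2, 2, 0, 0, -2, 2, 0, -2, 0, -2, 0, 0, 0, 2, 2, 0, -4, -2, 2, 0, 0, 0, 2],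
    [2, 2, 2, 0, -4, 2, -2, 0, -2, 0, -2, 0, 0, 0, -2, -2, 0, 0, 2, 2, 0, 0, 0, 2],
    [0, 0, 4, 2, 2, 0, 0, -2, 0, 2, 0, 2, 2, -2, 0, 0, -2, 2, 0, 0, -2, -2, 2, 0],
    [2, 2, -2, 0, 0, -2, 2, 0, 2, 0, -2, 0, 0, 0, -2, 2, 0, 0, 2, -2, 0, -4, 0, 2],
    [-2, 2, -2, 0, 0, 2, -2, 0, 2, 0, 2, 0, 0, -4, -2, 2, 0, 0, -2, 2, 0, 0, 0, 2],
    [0, 0, 0, 2, -2, 0, 0, 2, 0, 2, 0, 2, -2, -2, 4, 0, 2, 2, 0, 0, 2, -2, -2, 0],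
    [0, 0, 0, -2, 2, 0, 0, -2, 0, 2, 0, -2, 2, 2, 0, 0, 2, 2, 0, 4, 2, -2, -2, 0],
    [0, 0, 0, 2, -2, 0, 0, -2, 4, 2, 0, 2, 2, 2, 0, 0, -2, -2, 0, 0, 2, 2, -2, 0],
    [4, 0, 0, -2, 2, 0, 0, 2, 0, 2, 0, 2, 2, -2, 0, 0, 2, -2, 0, 0, -2, 2, -2, 0],
    [2, -2, 2, 0, 0, -2, 2, 0, 2, 0, 2, 0, -4, 0, -2, -2, 0, 0, -2, 2, 0, 0, 0, 2],
    [-2, -2, 2, 0, 0, 2, 2, 0, -2, 0, 2, 0, 0, 0, -2, 2, 0, 0, 2, -2, 0, 0, -4, 2],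
    [2, 2, -2, 0, 0, 2, 2, -4, -2, 0, 2, 0, 0, 0, 2, -2, 0, 0, -2, -2, 0, 0, 0, 2],
    [-2, -2, -2, 0, 0, 2, 2, 0, 2, 0, -2, 0, 0, 0, 2, -2, 0, 0, 2, 2, -4, 0, 0, 2],
    [0, 0, 0, -2, 2, 4, 0, 2, 0, 2, 0, 2, -2, 2, 0, 0, -2, -2, 0, 0, 2, -2, 2, 0],
    [0, 0, 0, -2, -2, 0, 4, 2, 0, 2, 0, -2, 2, -2, 0, 0, -2, 2, 0, 0, 2, 2, 2, 0],
    [2, -2, 2, 0, 0, 2, -2, 0, 2, 0, -2, -4, 0, 0, 2, 2, 0, 0, -2, -2, 0, 0, 0, 2],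
    [0, 0, 0, -2, -2, 0, 0, -2, 0, 2, 0, 2, -2, 2, 0, 4, 2, 2, 0, 0, -2, 2, 2, 0],
    [0, 0, 0, 2, 2, 0, 0, 2, 0, -2, 0, 2, 2, 2, 0, 0, 2, 2, 0, 0, 2, 2, 2, 4]]

/-- Element 2. -/
def el2 : List (List ℤ) :=
  [[1, 1, 1, -1, 3, -1, -1, 1, 3, 1, 1, 1, 1, 1, 1, 1, 1, -1, 1, 1, -5, 1, 1, -1],
    [3, -1, -1, 1, 1, -3, 1, -1, 1, -1, -1, 3, -1, -1, -1, -1, -1, 1, 3, -1, 1, 3, -1, 1],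
    [-1, 3, -1, 1, 1, 1, 1, 3, 1, -1, -1, 3, 3, -1, -1, -1, -1, -3, -1, -1, 1, -1, -1, 1],
    [-1, -1, -1, -3, 1, 1, 1, -1, 1, 3, -1, 3, -1, -1, 3, -1, -1, 1, -1, -1, 1, -1, 3, 1],
    [1, 1, -3, -1, -1, -1, -1, 1, -1, 1, 1, -3, 1, 1, 1, -3, -3, -1, 1, 1, -1, 1, 1, 3],
    [-1, 3, -1, 1, 1, -3, 1, -1, 1, -1, -1, -1, -1, -1, -1, -1, 3, 1, -1, 3, 1, -1, 3, 1],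
    [-1, -1, -1, 1, 1, 1, -3, 3, 1, -1, -1, -1, -1, -1, -1, 3, -1, 1, 3, -1, 1, -1, 3, 1],
    [-1, -1, -1, 1, 1, 1, -3, -1, 1, -1, 3, 3, -1, 3, -1, -1, -1, 1, -1, 3, 1, -1, -1, 1],
    [1, 1, 1, -1, -1, -1, -1, -3, -1, 1, 1, 1, 1, 1, -3, 1, 1, -1, 1, -3, -1, -3, 1, 3],
    [3, -1, -1, -3, 1, 1, 1, 3, 1, -1, -1, -1, -1, 3, -1, -1, 3, 1, -1, -1, 1, -1, -1, 1],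
    [1, 1, 1, -1, 3, -1, -1, 1, -5, 1, 1, 1, 1, 1, 1, 1, 1, -1, 1, 1, 3, 1, 1, -1],
    [-1, -1, 3, -3, 1, 1, 1, -1, 1, -1, -1, -1, 3, -1, -1, -1, -1, 1, 3, 3, 1, -1, -1, 1],
    [1, 1, 1, -1, -5, -1, -1, 1, 3, 1, 1, 1, 1, 1, 1, 1, 1, -1, 1, 1, 3, 1, 1, -1],
    [3, -1, -1, 1, 1, 1, 1, -1, 1, 3, -1, -1, -1, -1, -1, 3, -1, -3, -1, 3, 1, -1, -1, 1],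
    [-1, 3, -1, -3, 1, 1, 1, -1, 1, -1, 3, -1, -1, -1, -1, 3, -1, 1, -1, -1, 1, 3, -1, 1],
    [-1, -1, -1, 1, 1, 1, -3, -1, 1, 3, -1, -1, 3, -1, -1, -1, 3, 1, -1, -1, 1, 3, -1, 1],
    [-1, -1, -1, 1, 1, -3, 1, -1, 1, -1, -1, -1, 3, 3, 3, 3, -1, 1, -1, -1, 1, -1, -1, 1],
    [-1, -1, 3, 1, 1, 1, 1, -1, 1, -1, -1, -1, -1, 3, -1, -1, -1, -3, -1, -1, 1, 3, 3, 1],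
    [3, 3, 3, 1, 1, 1, -3, -1, 1, -1, -1, -1, -1, -1, 3, -1, -1, 1, -1, -1, 1, -1, -1, 1],
    [-1, -1, 3, 1, 1, -3, 1, 3, 1, 3, 3, -1, -1, -1, -1, -1, -1, 1, -1, -1, 1, -1, -1, 1],
    [1, -3, 1, -1, -1, -1, -1, 1, -1, -3, 1, 1, 1, -3, 1, 1, 1, -1, -3, 1, -1, 1, 1, 3],
    [-1, -1, -1, 1, 1, 1, 1, -1, 1, -1, 3, -1, -1, -1, 3, -1, 3, -3, 3, -1, 1, -1, -1, 1],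
    [-3, 1, 1, -1, -1, -1, -1, 1, -1, 1, -3, 1, -3, 1, 1, 1, 1, -1, 1, 1, -1, 1, -3, 3],
    [1, 1, 1, 3, -1, 3, 3, 1, -1, 1, 1, 1, 1, 1, 1, 1, 1, 3, 1, 1, -1, 1, 1, 3]]

/-- Element 3. -/
def el3 : List (List ℤ) :=
  [[1, 1, 1, 1, 3, 1, 1, -1, 3, 1, 1, 1, 1, 1, -1, 1, 1, 1, 1, -1, -5, -1, 1, -1],
    [3, -1, -1, 3, 1, -1, -1, -3, 1, -1, -1, -1, -1, 3, 1, -1, 3, -1, -1, 1, 1, 1, -1, 1],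
    [-1, 3, -1, -1, 1, 3, -1, 1, 1, -1, -1, -1, -1, -1, 1, -1, 3, -1, -1, -3, 1, 1, 3, 1],
    [-1, -1, -1, -1, 1, -1, 3, 1, 1, -1, 3, 3, -1, 3, 1, -1, -1, -1, -1, -3, 1, 1, -1, 1],
    [1, 1, 1, -3, -1, -3, -3, -1, -1, 1, 1, 1, 1, 1, -1, 1, 1, -3, 1, -1, -1, -1, 1, 3],
    [-1, -1, -1, -1, 1, -1, -1, 1, 1, -1, 3, -1, -1, -1, -3, -1, 3, 3, 3, 1, 1, 1, -1, 1],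
    [-1, 3, -1, 3, 1, -1, -1, 1, 1, -1, 3, -1, -1, -1, 1, 3, -1, -1, -1, 1, 1, -3, -1, 1],
    [-1, 3, -1, -1, 1, -1, -1, -3, 1, -1, -1, 3, 3, -1, 1, -1, -1, 3, -1, 1, 1, 1, -1, 1],
    [1, 1, -3, 1, -1, 1, 1, -1, -1, 1, 1, -3, 1, 1, -1, -3, -3, 1, 1, -1, -1, -1, 1, 3],
    [3, -1, -1, -1, 1, 3, -1, 1, 1, -1, -1, 3, -1, -1, 1, -1, -1, -1, 3, 1, 1, -3, -1, 1],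
    [1, 1, 1, 1, -5, 1, 1, -1, 3, 1, 1, 1, 1, 1, -1, 1, 1, 1, 1, -1, 3, -1, 1, -1],
    [-1, -1, -1, -1, 1, -1, 3, -3, 1, -1, -1, -1, -1, -1, 1, 3, -1, -1, 3, 1, 1, 1, 3, 1],
    [-3, 1, 1, 1, -1, 1, 1, -1, -1, 1, -3, 1, -3, 1, -1, 1, 1, 1, 1, -1, -1, -1, -3, 3],
    [3, 3, 3, -1, 1, -1, 3, 1, 1, -1, -1, -1, -1, -1, -3, -1, -1, -1, -1, 1, 1, 1, -1, 1],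
    [-1, -1, -1, -1, 1, 3, -1, 1, 1, -1, -1, -1, 3, 3, -3, 3, -1, -1, -1, 1, 1, 1, -1, 1],
    [-1, -1, -1, 3, 1, -1, -1, 1, 1, 3, -1, 3, -1, -1, -3, -1, -1, -1, -1, 1, 1, 1, 3, 1],
    [-1, -1, 3, -1, 1, -1, -1, 1, 1, -1, -1, -1, -1, 3, 1, -1, -1, 3, -1, 1, 1, -3, 3, 1],
    [-1, -1, 3, -1, 1, 3, -1, -3, 1, 3, 3, -1, -1, -1, 1, -1, -1, -1, -1, 1, 1, 1, -1, 1],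
    [3, -1, -1, -1, 1, -1, -1, 1, 1, 3, -1, -1, -1, -1, 1, 3, -1, 3, -1, -3, 1, 1, -1, 1],
    [-1, -1, 3, 3, 1, -1, -1, 1, 1, -1, -1, -1, 3, -1, 1, -1, -1, -1, 3, -3, 1, 1, -1, 1],
    [1, -3, 1, 1, -1, 1, 1, -1, -1, -3, 1, 1, 1, -3, -1, 1, 1, 1, -3, -1, -1, -1, 1, 3],
    [-1, -1, -1, -1, 1, -1, 3, 1, 1, 3, -1, -1, 3, -1, 1, -1, 3, -1, -1, 1, 1, -3, -1, 1],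
    [1, 1, 1, 1, 3, 1, 1, -1, -5, 1, 1, 1, 1, 1, -1, 1, 1, 1, 1, -1, 3, -1, 1, -1],
    [1, 1, 1, 1, -1, 1, 1, 3, -1, 1, 1, 1, 1, 1, 3, 1, 1, 1, 1, 3, -1, 3, 1, 3]]

/-- Element 4. -/
def el4 : List (List ℤ) :=
  [[1, 1, -1, -1, 3, -1, -1, -1, 1, 3, -1, -1, -1, 3, -1, -1, -3, 1, 3, -1, 1, 1, -1, 1],
    [3, -1, 1, 1, 1, 1, 1, 1, -1, 1, 1, 1, 1, 1, 1, 1, -1, 3, 1, 1, -1, -5, 1, -1],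
    [1, -3, -1, 3, -1, -1, -1, -1, 1, 3, 3, -1, -1, -1, -1, -1, 1, 1, -1, 3, 1, 1, -1, 1],
    [1, -3, 3, -1, 3, -1, -1, -1, 1, -1, -1, 3, -1, -1, -1, 3, 1, 1, -1, -1, 1, 1, -1, 1],
    [1, 1, 3, -1, -1, 3, 3, -1, 1, 3, -1, -1, -1, -1, -1, -1, 1, 1, -1, -1, -3, 1, -1, 1],
    [-1, -1, 1, 1, -3, -3, 1, 1, -1, 1, 1, 1, 1, 1, 1, 1, -1, -1, 1, -3, -1, -1, -3, 3],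
    [1, 1, -1, -1, -1, -1, -1, -1, -3, 3, -1, 3, 3, -1, -1, -1, 1, 1, -1, -1, 1, 1, 3, 1],
    [1, -3, -1, -1, -1, -1, 3, -1, 1, -1, -1, -1, -1, 3, 3, -1, 1, 1, -1, -1, 1, 1, 3, 1],
    [3, -1, 1, 1, 1, 1, 1, 1, -1, 1, 1, 1, 1, 1, 1, 1, -1, -5, 1, 1, -1, 3, 1, -1],
    [1, 1, -1, 3, 3, -1, -1, -1, 1, -1, -1, -1, 3, -1, 3, -1, 1, 1, -1, -1, -3, 1, -1, 1],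
    [-1, -1, -3, 1, 1, 1, 1, 1, -1, 1, -3, 1, -3, -3, 1, 1, -1, -1, 1, 1, -1, -1, 1, 3],
    [-1, -1, 1, -3, 1, 1, -3, 1, -1, 1, 1, -3, 1, 1, 1, 1, -1, -1, -3, 1, -1, -1, 1, 3],
    [1, 1, -1, -1, 3, -1, 3, 3, -3, -1, 3, -1, -1, -1, -1, -1, 1, 1, -1, -1, 1, 1, -1, 1],
    [1, 1, -1, -1, -1, -1, -1, -1, 1, -1, 3, -1, -1, -1, -1, 3, 1, 1, 3, -1, -3, 1, 3, 1],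
    [-1, -1, 1, 1, 1, 1, 1, -3, -1, -3, 1, 1, 1, 1, -3, -3, -1, -1, 1, 1, -1, -1, 1, 3],
    [1, 1, 3, -1, -1, -1, -1, -1, -3, -1, -1, -1, -1, -1, 3, -1, 1, 1, 3, 3, 1, 1, -1, 1],
    [1, 1, -1, -1, -1, 3, -1, -1, 1, -1, 3, 3, -1, -1, 3, -1, -3, 1, -1, -1, 1, 1, -1, 1],
    [1, 1, -1, -1, -1, -1, 3, -1, 1, -1, -1, -1, 3, -1, -1, 3, -3, 1, -1, 3, 1, 1, -1, 1],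
    [1, 1, -1, -1, -1, -1, -1, 3, 1, -1, -1, 3, -1, 3, -1, -1, 1, 1, -1, 3, -3, 1, -1, 1],
    [1, 1, -1, 3, -1, 3, -1, -1, -3, -1, -1, -1, -1, 3, -1, 3, 1, 1, -1, -1, 1, 1, -1, 1],
    [-5, -1, 1, 1, 1, 1, 1, 1, -1, 1, 1, 1, 1, 1, 1, 1, -1, 3, 1, 1, -1, 3, 1, -1],
    [1, 1, 3, 3, -1, -1, -1, 3, 1, -1, -1, -1, -1, -1, -1, -1, -3, 1, -1, -1, 1, 1, 3, 1],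
    [1, -3, -1, -1, -1, 3, -1, 3, 1, -1, -1, -1, 3, -1, -1, -1, 1, 1, 3, -1, 1, 1, -1, 1],
    [-1, 3, 1, 1, 1, 1, 1, 1, 3, 1, 1, 1, 1, 1, 1, 1, 3, -1, 1, 1, 3, -1, 1, 3]]

/-- Element 5. -/
def el5 : List (List ℤ) :=
  [[1, 3, 1, -1, 1, 1, -1, 1, 1, 3, 1, 1, 1, 1, -1, 1, 1, 1, 1, 1, -5, -1, 1, -1],
    [1, -1, 1, -1, 1, -3, -1, -3, 1, -1, 1, 1, 1, 1, -1, 1, 1, -3, 1, -3, -1, -1, 1, 3],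
    [1, 3, 1, -1, 1, 1, -1, 1, 1, -5, 1, 1, 1, 1, -1, 1, 1, 1, 1, 1, 3, -1, 1, -1],
    [-1, 1, -1, -3, -1, -1, 1, -1, -1, 1, -1, -1, -1, -1, 1, 3, -1, -1, 3, 3, 1, 1, 3, 1],
    [3, 1, -1, 1, -1, -1, -3, -1, -1, 1, -1, -1, -1, 3, 1, -1, 3, -1, -1, 3, 1, 1, -1, 1],
    [-1, 1, -1, 1, -1, -1, -3, -1, 3, 1, 3, -1, -1, -1, 1, -1, -1, 3, -1, -1, 1, 1, 3, 1],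
    [-1, 1, -1, 1, 3, 3, -3, -1, -1, 1, -1, 3, -1, -1, 1, 3, -1, -1, -1, -1, 1, 1, -1, 1],
    [-1, 1, -1, 1, 3, -1, 1, -1, -1, 1, 3, -1, 3, -1, -3, -1, -1, -1, -1, 3, 1, 1, -1, 1],
    [3, 1, -1, 1, -1, -1, 1, -1, -1, 1, -1, 3, -1, -1, -3, -1, -1, 3, 3, -1, 1, 1, -1, 1],
    [1, -1, 1, -1, 1, 1, -1, 1, 1, -1, 1, -3, -3, 1, -1, 1, -3, 1, 1, 1, -1, -1, -3, 3],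
    [1, -5, 1, -1, 1, 1, -1, 1, 1, 3, 1, 1, 1, 1, -1, 1, 1, 1, 1, 1, 3, -1, 1, -1],
    [-1, 1, 3, 1, -1, -1, -3, 3, -1, 1, -1, -1, 3, -1, 1, -1, -1, -1, 3, -1, 1, 1, -1, 1],
    [-1, 1, 3, 1, -1, -1, 1, -1, 3, 1, -1, 3, -1, -1, 1, -1, -1, -1, -1, 3, 1, -3, -1, 1],
    [3, 1, -1, 1, 3, -1, 1, 3, -1, 1, -1, -1, -1, -1, 1, -1, -1, -1, -1, -1, 1, -3, 3, 1],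
    [-1, 1, -1, 1, -1, -1, 1, 3, 3, 1, -1, -1, -1, -1, -3, 3, 3, -1, -1, -1, 1, 1, -1, 1],
    [-3, -1, -3, -1, 1, 1, -1, 1, 1, -1, -3, 1, 1, 1, -1, -3, 1, 1, 1, 1, -1, -1, 1, 3],
    [-1, 1, 3, 1, -1, 3, 1, -1, -1, 1, -1, -1, -1, 3, -3, -1, -1, -1, -1, -1, 1, 1, 3, 1],
    [-1, 1, -1, 1, -1, 3, 1, -1, -1, 1, 3, -1, -1, -1, 1, -1, 3, -1, 3, -1, 1, -3, -1, 1],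
    [3, 1, -1, -3, -1, 3, 1, -1, 3, 1, -1, -1, 3, -1, 1, -1, -1, -1, -1, -1, 1, 1, -1, 1],
    [-1, 1, -1, -3, -1, -1, 1, 3, -1, 1, 3, 3, -1, 3, 1, -1, -1, -1, -1, -1, 1, 1, -1, 1],
    [1, -1, 1, -1, -3, 1, -1, 1, -3, -1, 1, 1, 1, -3, -1, 1, 1, 1, -3, 1, -1, -1, 1, 3],
    [-1, 1, -1, 1, -1, -1, 1, -1, -1, 1, -1, -1, 3, 3, 1, 3, -1, 3, -1, -1, 1, -3, -1, 1],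
    [-1, 1, 3, -3, 3, -1, 1, -1, -1, 1, -1, -1, -1, -1, 1, -1, 3, 3, -1, -1, 1, 1, -1, 1],
    [1, -1, 1, 3, 1, 1, 3, 1, 1, -1, 1, 1, 1, 1, 3, 1, 1, 1, 1, 1, -1, 3, 1, 3]]

/-- Element 6. -/
def el6 : List (List ℤ) :=
  [[1, 3, -3, -1, 1, -1, -1, 1, 3, 3, -1, -1, -1, 3, -1, -1, -1, 1, 1, -1, 1, -1, -1, 1],
    [1, -1, 1, -1, 1, -1, -1, 1, -1, 3, 3, -1, 3, -1, -1, -1, 3, 1, 1, -1, -3, -1, -1, 1],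
    [1, -1, -3, -1, 1, 3, -1, 1, -1, -1, 3, -1, -1, -1, -1, 3, -1, 1, 1, 3, 1, -1, -1, 1],
    [1, 3, 1, -1, -3, -1, -1, 1, -1, -1, -1, -1, -1, -1, 3, -1, 3, 1, 1, 3, 1, -1, -1, 1],
    [3, 1, -1, 1, -1, 1, 1, -5, 1, 1, 1, 1, 1, 1, 1, 1, 1, 3, -1, 1, -1, 1, 1, -1],
    [-1, 1, -1, 1, -1, -3, -3, -1, 1, 1, 1, 1, 1, -3, 1, 1, -3, -1, -1, 1, -1, 1, 1, 3],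
    [1, 3, 1, -1, 1, 3, -1, 1, -1, -1, -1, -1, 3, -1, -1, -1, -1, 1, -3, -1, 1, 3, -1, 1],
    [1, -1, -3, 3, 1, -1, -1, 1, -1, -1, -1, -1, -1, -1, -1, -1, 3, 1, 1, -1, 1, 3, 3, 1],
    [1, -1, 1, -1, 1, -1, -1, 1, -1, -1, -1, 3, -1, 3, -1, -1, -1, 1, 1, 3, -3, 3, -1, 1],
    [1, 3, 1, 3, 1, -1, 3, 1, -1, -1, -1, -1, -1, -1, -1, 3, -1, 1, 1, -1, -3, -1, -1, 1],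
    [-1, -3, -1, 1, -1, 1, 1, -1, 1, 1, -3, -3, 1, 1, 1, 1, 1, -1, -1, 1, -1, 1, -3, 3],
    [1, -1, 1, 3, 1, -1, -1, 1, -1, -1, 3, -1, -1, 3, 3, -1, -1, 1, -3, -1, 1, -1, -1, 1],
    [1, -1, 1, -1, 1, -1, 3, 1, -1, 3, -1, -1, -1, -1, -1, -1, -1, 1, -3, 3, 1, -1, 3, 1],
    [1, -1, 1, -1, 1, 3, -1, 1, 3, -1, -1, -1, -1, -1, 3, -1, -1, 1, 1, -1, -3, -1, 3, 1],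
    [1, -1, 1, -1, 1, -1, -1, 1, 3, -1, -1, 3, -1, -1, -1, 3, 3, 1, -3, -1, 1, -1, -1, 1],
    [-1, 1, -1, 1, -1, 1, 1, -1, 1, -3, 1, 1, 1, 1, -3, -3, 1, -1, -1, 1, -1, -3, 1, 3],
    [1, -1, 1, 3, -3, 3, -1, 1, -1, 3, -1, 3, -1, -1, -1, -1, -1, 1, 1, -1, 1, -1, -1, 1],
    [1, -1, -3, -1, 1, -1, 3, 1, -1, -1, -1, 3, 3, -1, 3, -1, -1, 1, 1, -1, 1, -1, -1, 1],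
    [3, 1, -1, 1, -1, 1, 1, 3, 1, 1, 1, 1, 1, 1, 1, 1, 1, -5, -1, 1, -1, 1, 1, -1],
    [-1, 1, -1, -3, -1, 1, 1, -1, -3, 1, 1, 1, -3, 1, 1, 1, 1, -1, -1, -3, -1, 1, 1, 3],
    [-5, 1, -1, 1, -1, 1, 1, 3, 1, 1, 1, 1, 1, 1, 1, 1, 1, 3, -1, 1, -1, 1, 1, -1],
    [1, -1, 1, -1, -3, -1, -1, 1, -1, -1, -1, -1, 3, 3, -1, 3, -1, 1, 1, -1, 1, -1, 3, 1],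
    [1, -1, 1, -1, -3, -1, 3, 1, 3, -1, 3, -1, -1, -1, -1, -1, -1, 1, 1, -1, 1, 3, -1, 1],
    [-1, 1, 3, 1, 3, 1, 1, -1, 1, 1, 1, 1, 1, 1, 1, 1, 1, -1, 3, 1, 3, 1, 1, 3]]

/-- Element 7. -/
def el7 : List (List ℤ) :=
  [[-4, 0, 0, 0, 0, 2, 0, 2, 0, 0, 2, 2, 0, 0, 2, 2, 0, 2, 0, 2, 2, 2, 2, -2],
    [0, -4, 0, 0, 0, 2, 0, -2, 0, 0, -2, -2, 0, 0, 2, 2, 0, -2, 0, 2, 2, 2, -2, 2],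
    [0, 0, -4, 0, 0, 2, 0, 2, 0, 0, 2, -2, 0, 0, -2, 2, 0, 2, 0, 2, -2, -2, -2, 2],
    [0, 0, 0, -4, 0, -2, 0, -2, 0, 0, -2, 2, 0, 0, 2, 2, 0, 2, 0, 2, -2, -2, 2, 2],
    [0, 0, 0, 0, -4, -2, 0, 2, 0, 0, 2, 2, 0, 0, 2, 2, 0, -2, 0, -2, 2, -2, -2, 2],
    [2, 2, 2, -2, -2, 4, 2, 0, 2, 2, 0, 0, -2, -2, 0, 0, 2, 0, -2, 0, 0, 0, 0, 0],
    [0, 0, 0, 0, 0, 2, -4, 2, 0, 0, -2, 2, 0, 0, -2, 2, 0, -2, 0, -2, -2, 2, 2, 2],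
    [2, -2, 2, -2, 2, 0, 2, 4, 2, -2, 0, 0, 2, 2, 0, 0, -2, 0, -2, 0, 0, 0, 0, 0],
    [0, 0, 0, 0, 0, 2, 0, 2, -4, 0, -2, -2, 0, 0, 2, -2, 0, 2, 0, -2, 2, -2, 2, 2],
    [0, 0, 0, 0, 0, 2, 0, -2, 0, -4, 2, 2, 0, 0, -2, -2, 0, -2, 0, 2, 2, -2, 2, 2],
    [2, -2, 2, -2, 2, 0, -2, 0, -2, 2, 4, 0, 2, -2, 0, 0, 2, 0, 2, 0, 0, 0, 0, 0],
    [2, -2, -2, 2, 2, 0, 2, 0, -2, 2, 0, 4, -2, 2, 0, 0, 2, 0, -2, 0, 0, 0, 0, 0],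
    [0, 0, 0, 0, 0, -2, 0, 2, 0, 0, 2, -2, -4, 0, 2, -2, 0, -2, 0, 2, -2, 2, 2, 2],
    [0, 0, 0, 0, 0, -2, 0, 2, 0, 0, -2, 2, 0, -4, -2, -2, 0, 2, 0, 2, 2, 2, -2, 2],
    [2, 2, -2, 2, 2, 0, -2, 0, 2, -2, 0, 0, 2, -2, 4, 0, 2, 0, -2, 0, 0, 0, 0, 0],
    [2, 2, 2, 2, 2, 0, 2, 0, -2, -2, 0, 0, -2, -2, 0, 4, -2, 0, 2, 0, 0, 0, 0, 0],
    [0, 0, 0, 0, 0, 2, 0, -2, 0, 0, 2, 2, 0, 0, 2, -2, -4, 2, 0, -2, -2, 2, -2, 2],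
    [2, -2, 2, 2, -2, 0, -2, 0, 2, -2, 0, 0, -2, 2, 0, 0, 2, 4, 2, 0, 0, 0, 0, 0],
    [0, 0, 0, 0, 0, -2, 0, -2, 0, 0, 2, -2, 0, 0, -2, 2, 0, 2, -4, -2, 2, 2, 2, 2],
    [2, 2, 2, 2, -2, 0, -2, 0, -2, 2, 0, 0, 2, 2, 0, 0, -2, 0, -2, 4, 0, 0, 0, 0],
    [2, 2, -2, -2, 2, 0, -2, 0, 2, 2, 0, 0, -2, 2, 0, 0, -2, 0, 2, 0, 4, 0, 0, 0],
    [2, 2, -2, -2, -2, 0, 2, 0, -2, -2, 0, 0, 2, 2, 0, 0, 2, 0, 2, 0, 0, 4, 0, 0],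
    [2, -2, -2, 2, -2, 0, 2, 0, 2, 2, 0, 0, 2, -2, 0, 0, -2, 0, 2, 0, 0, 0, 4, 0],
    [-2, 2, 2, 2, 2, 0, 2, 0, 2, 2, 0, 0, 2, 2, 0, 0, 2, 0, 2, 0, 0, 0, 0, 4]]

/-- Element 8. -/
def el8 : List (List ℤ) :=
  [[4, 0, 0, 2, 2, 0, 0, 0, 0, 0, -2, 0, 2, 4, -2, -2, 0, 0, 2, 0, 0, 0, -2, 0],
    [0, 4, 0, -2, -2, 0, 0, 0, 0, 4, -2, 0, 2, 0, 2, 2, 0, 0, 2, 0, 0, 0, -2, 0],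
    [2, 2, 2, 0, 0, -2, -2, 2, -2, -2, 0, 2, 0, -2, 0, 0, 2, -2, 0, -2, 2, -2, 0, 2],
    [2, -2, 2, 0, 0, -2, 2, -2, -2, 2, 0, -2, 0, -2, 0, 0, -2, 2, 0, -2, 2, 2, 0, 2],
    [2, -2, -2, 0, 0, -2, -2, 2, 2, 2, 0, -2, 0, -2, 0, 0, 2, -2, 0, 2, -2, 2, 0, 2],
    [0, 0, 0, 2, 2, 0, 0, 0, 0, 0, -2, 4, -2, 0, 2, 2, 0, 0, -2, 0, 0, 4, -2, 0],
    [0, 0, 0, -2, 2, 0, 4, 0, 0, 0, -2, 0, 2, 0, -2, 2, 4, 0, -2, 0, 0, 0, 2, 0],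
    [-2, -2, 2, 0, 0, -2, 2, 2, -2, 2, 0, 2, 0, 2, 0, 0, -2, -2, 0, 2, -2, -2, 0, 2],
    [2, 2, -2, 0, 0, -2, 2, -2, 2, -2, 0, 2, 0, -2, 0, 0, -2, 2, 0, 2, -2, -2, 0, 2],
    [4, 0, 0, -2, -2, 0, 0, 0, 0, 0, 2, 0, -2, 4, 2, 2, 0, 0, -2, 0, 0, 0, 2, 0],
    [0, 0, 0, -2, 2, 0, 0, 4, 0, 0, 2, 0, 2, 0, 2, -2, 0, 4, -2, 0, 0, 0, -2, 0],
    [0, 0, 0, -2, -2, 0, 0, 0, 0, 0, 2, 4, 2, 0, -2, -2, 0, 0, 2, 0, 0, 4, 2, 0],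
    [0, 0, 4, 2, -2, 0, 0, 0, 4, 0, 2, 0, 2, 0, -2, 2, 0, 0, -2, 0, 0, 0, -2, 0],
    [0, 4, 0, 2, 2, 0, 0, 0, 0, 4, 2, 0, -2, 0, -2, -2, 0, 0, -2, 0, 0, 0, 2, 0],
    [-2, 2, 2, 0, 0, -2, -2, -2, -2, -2, 0, -2, 0, 2, 0, 0, 2, 2, 0, 2, -2, 2, 0, 2],
    [-2, 2, -2, 0, 0, -2, 2, 2, 2, -2, 0, -2, 0, 2, 0, 0, -2, -2, 0, -2, 2, 2, 0, 2],
    [0, 0, 0, 2, -2, 0, 4, 0, 0, 0, 2, 0, -2, 0, 2, -2, 4, 0, 2, 0, 0, 0, -2, 0],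
    [-2, -2, -2, 0, 0, -2, -2, -2, 2, 2, 0, 2, 0, 2, 0, 0, 2, 2, 0, -2, 2, -2, 0, 2],
    [0, 0, 4, -2, 2, 0, 0, 0, 4, 0, -2, 0, -2, 0, 2, -2, 0, 0, 2, 0, 0, 0, 2, 0],
    [0, 0, 0, -2, 2, 0, 0, 0, 0, 0, 2, 0, -2, 0, -2, 2, 0, 0, 2, 4, 4, 0, -2, 0],
    [0, 0, 0, 2, -2, 0, 0, 0, 0, 0, -2, 0, 2, 0, 2, -2, 0, 0, -2, 4, 4, 0, 2, 0],
    [0, 0, 0, -2, -2, 4, 0, 0, 0, 0, -2, 0, -2, 0, -2, -2, 0, 0, -2, 0, 0, 0, -2, 4],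
    [0, 0, 0, 2, -2, 0, 0, 4, 0, 0, -2, 0, -2, 0, -2, 2, 0, 4, 2, 0, 0, 0, 2, 0],
    [0, 0, 0, 2, 2, 4, 0, 0, 0, 0, 2, 0, 2, 0, 2, 2, 0, 0, 2, 0, 0, 0, 2, 4]]

/-- Element 9. -/
def el9 : List (List ℤ) :=
  [[4, 2, 0, 2, 0, 0, 0, 0, 0, 4, 0, 0, 0, 0, -2, -2, 2, -2, 2, 0, 0, -2, 0, 0],
    [2, 0, -2, 0, -2, 2, -2, -2, 2, -2, 2, 2, 2, 2, 0, 0, 0, 0, 0, -2, -2, 0, -2, 2],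
    [0, 2, 4, -2, 0, 0, 0, 0, 0, 0, 0, 0, 4, 0, -2, 2, 2, 2, -2, 0, 0, -2, 0, 0],
    [2, 0, 2, 0, -2, -2, 2, -2, -2, -2, 2, -2, -2, 2, 0, 0, 0, 0, 0, -2, 2, 0, 2, 2],
    [0, -2, 0, -2, 4, 0, 0, 0, 0, 0, 0, 0, 0, 4, 2, 2, 2, -2, 2, 0, 0, -2, 0, 0],
    [-2, 0, 2, 0, -2, 2, 2, -2, -2, 2, -2, 2, -2, 2, 0, 0, 0, 0, 0, 2, -2, 0, -2, 2],
    [2, 0, -2, 0, 2, 2, 2, -2, -2, -2, -2, -2, 2, -2, 0, 0, 0, 0, 0, 2, 2, 0, -2, 2],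
    [0, 2, 0, 2, 0, 0, 0, 0, 0, 0, 4, 0, 0, 0, 2, 2, -2, -2, -2, 4, 0, -2, 0, 0],
    [2, 0, 2, 0, 2, -2, -2, -2, 2, -2, -2, 2, -2, -2, 0, 0, 0, 0, 0, 2, -2, 0, 2, 2],
    [0, 2, 0, 2, 4, 0, 0, 0, 0, 0, 0, 0, 0, 4, -2, -2, -2, 2, -2, 0, 0, 2, 0, 0],
    [0, -2, 0, -2, 0, 0, 0, 4, 0, 0, 0, 0, 0, 0, -2, -2, -2, -2, -2, 0, 0, -2, 0, 4],
    [0, 2, 0, -2, 0, 0, 0, 0, 0, 0, 0, 4, 0, 0, -2, 2, -2, -2, 2, 0, 4, 2, 0, 0],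
    [0, -2, 4, 2, 0, 0, 0, 0, 0, 0, 0, 0, 4, 0, 2, -2, -2, -2, 2, 0, 0, 2, 0, 0],
    [4, -2, 0, -2, 0, 0, 0, 0, 0, 4, 0, 0, 0, 0, 2, 2, -2, 2, -2, 0, 0, 2, 0, 0],
    [-2, 0, -2, 0, 2, -2, 2, -2, -2, 2, 2, 2, 2, -2, 0, 0, 0, 0, 0, -2, -2, 0, 2, 2],
    [-2, 0, 2, 0, 2, 2, -2, -2, 2, 2, 2, -2, -2, -2, 0, 0, 0, 0, 0, -2, 2, 0, -2, 2],
    [0, -2, 0, 2, 0, 0, 4, 0, 4, 0, 0, 0, 0, 0, -2, 2, 2, -2, -2, 0, 0, 2, 0, 0],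
    [0, -2, 0, 2, 0, 4, 0, 0, 0, 0, 0, 0, 0, 0, -2, 2, -2, 2, 2, 0, 0, -2, 4, 0],
    [0, 2, 0, -2, 0, 0, 4, 0, 4, 0, 0, 0, 0, 0, 2, -2, -2, 2, 2, 0, 0, -2, 0, 0],
    [0, -2, 0, -2, 0, 0, 0, 0, 0, 0, 4, 0, 0, 0, -2, -2, 2, 2, 2, 4, 0, 2, 0, 0],
    [0, -2, 0, 2, 0, 0, 0, 0, 0, 0, 0, 4, 0, 0, 2, -2, 2, 2, -2, 0, 4, -2, 0, 0],
    [0, 2, 0, -2, 0, 4, 0, 0, 0, 0, 0, 0, 0, 0, 2, -2, 2, -2, -2, 0, 0, 2, 4, 0],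
    [-2, 0, -2, 0, -2, -2, -2, -2, 2, 2, -2, -2, 2, 2, 0, 0, 0, 0, 0, 2, 2, 0, 2, 2],
    [0, 2, 0, 2, 0, 0, 0, 4, 0, 0, 0, 0, 0, 0, 2, 2, 2, 2, 2, 0, 0, 2, 0, 4]]

/-- Element 10. -/
def el10 : List (List ℤ) :=
  [[6, 0, 0, 2, 0, -2, 0, -2, 0, 0, -2, 0, 0, 0, 0, 0, 0, 0, 0, 0, -2, -2, 0, 2],
    [0, 2, -2, 0, -2, 0, 2, 0, 2, 2, 0, -2, -2, 2, 2, 2, 2, -2, 2, 2, 0, 0, -2, 0],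
    [0, -2, 2, 0, 2, 0, 2, 0, -2, -2, 0, -2, 2, 2, 2, -2, 2, -2, 2, 2, 0, 0, 2, 0],
    [2, 0, 0, 6, 0, 2, 0, 2, 0, 0, 2, 0, 0, 0, 0, 0, 0, 0, 0, 0, 2, 2, 0, -2],
    [0, -2, 2, 0, 2, 0, -2, 0, 2, 2, 0, 2, 2, 2, 2, 2, -2, -2, 2, -2, 0, 0, -2, 0],
    [-2, 0, 0, 2, 0, -2, 0, -2, 0, 0, -2, 0, 0, 0, 0, 0, 0, 0, 0, 0, -2, 6, 0, 2],
    [0, 2, 2, 0, -2, 0, 2, 0, 2, -2, 0, 2, 2, 2, -2, 2, 2, -2, -2, -2, 0, 0, 2, 0],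
    [-2, 0, 0, 2, 0, -2, 0, 6, 0, 0, -2, 0, 0, 0, 0, 0, 0, 0, 0, 0, -2, -2, 0, 2],
    [0, 2, -2, 0, 2, 0, 2, 0, 2, -2, 0, 2, 2, 2, -2, -2, -2, 2, 2, 2, 0, 0, -2, 0],
    [0, 2, -2, 0, 2, 0, -2, 0, -2, 2, 0, -2, 2, 2, -2, 2, 2, 2, 2, -2, 0, 0, 2, 0],
    [-2, 0, 0, 2, 0, -2, 0, -2, 0, 0, 6, 0, 0, 0, 0, 0, 0, 0, 0, 0, -2, -2, 0, 2],
    [0, -2, -2, 0, 2, 0, 2, 0, 2, -2, 0, 2, -2, -2, 2, 2, 2, 2, 2, -2, 0, 0, 2, 0],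
    [0, -2, 2, 0, 2, 0, 2, 0, 2, 2, 0, -2, 2, -2, -2, 2, 2, 2, -2, 2, 0, 0, -2, 0],
    [0, 2, 2, 0, 2, 0, 2, 0, 2, 2, 0, -2, -2, 2, 2, -2, -2, 2, -2, -2, 0, 0, 2, 0],
    [0, 2, 2, 0, 2, 0, -2, 0, -2, -2, 0, 2, -2, 2, 2, 2, 2, 2, -2, 2, 0, 0, -2, 0],
    [0, 2, -2, 0, 2, 0, 2, 0, -2, 2, 0, 2, 2, -2, 2, 2, -2, -2, -2, 2, 0, 0, 2, 0],
    [0, 2, 2, 0, -2, 0, 2, 0, -2, 2, 0, 2, 2, -2, 2, -2, 2, 2, 2, -2, 0, 0, -2, 0],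
    [0, -2, -2, 0, -2, 0, -2, 0, 2, 2, 0, 2, 2, 2, 2, -2, 2, 2, -2, 2, 0, 0, 2, 0],
    [0, 2, 2, 0, 2, 0, -2, 0, 2, 2, 0, 2, -2, -2, -2, -2, 2, -2, 2, 2, 0, 0, 2, 0],
    [0, 2, 2, 0, -2, 0, -2, 0, 2, -2, 0, -2, 2, -2, 2, 2, -2, 2, 2, 2, 0, 0, 2, 0],
    [-2, 0, 0, 2, 0, -2, 0, -2, 0, 0, -2, 0, 0, 0, 0, 0, 0, 0, 0, 0, 6, -2, 0, 2],
    [-2, 0, 0, 2, 0, 6, 0, -2, 0, 0, -2, 0, 0, 0, 0, 0, 0, 0, 0, 0, -2, -2, 0, 2],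
    [0, -2, 2, 0, -2, 0, 2, 0, -2, 2, 0, 2, -2, 2, -2, 2, -2, 2, 2, 2, 0, 0, 2, 0],
    [2, 0, 0, -2, 0, 2, 0, 2, 0, 0, 2, 0, 0, 0, 0, 0, 0, 0, 0, 0, 2, 2, 0, 6]]

/-- Element 11. -/
def el11 : List (List ℤ) :=
  [[6, 0, 2, 0, 0, 0, 0, 0, 0, 0, 0, -2, 0, 0, -2, 0, 0, 0, 0, 0, -2, -2, -2, 2],
    [0, 2, 0, -2, 2, 2, -2, -2, 2, -2, -2, 0, 2, 2, 0, 2, 2, -2, 2, 2, 0, 0, 0, 0],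
    [2, 0, 6, 0, 0, 0, 0, 0, 0, 0, 0, 2, 0, 0, 2, 0, 0, 0, 0, 0, 2, 2, 2, -2],
    [0, -2, 0, 2, 2, -2, 2, -2, 2, 2, -2, 0, 2, -2, 0, 2, 2, 2, -2, 2, 0, 0, 0, 0],
    [0, 2, 0, 2, 2, 2, -2, 2, 2, 2, -2, 0, 2, -2, 0, -2, -2, 2, 2, -2, 0, 0, 0, 0],
    [0, 2, 0, -2, 2, 2, 2, 2, -2, 2, 2, 0, 2, -2, 0, 2, -2, -2, -2, 2, 0, 0, 0, 0],
    [0, -2, 0, 2, -2, 2, 2, 2, -2, 2, -2, 0, 2, 2, 0, 2, 2, -2, 2, -2, 0, 0, 0, 0],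
    [0, -2, 0, -2, 2, 2, 2, 2, 2, -2, 2, 0, -2, -2, 0, 2, 2, 2, 2, -2, 0, 0, 0, 0],
    [0, 2, 0, 2, 2, -2, -2, 2, 2, 2, 2, 0, -2, 2, 0, 2, 2, -2, -2, -2, 0, 0, 0, 0],
    [0, -2, 0, 2, 2, 2, 2, -2, 2, 2, 2, 0, -2, 2, 0, -2, -2, -2, 2, 2, 0, 0, 0, 0],
    [0, -2, 0, -2, -2, 2, -2, 2, 2, 2, 2, 0, 2, 2, 0, -2, 2, 2, -2, 2, 0, 0, 0, 0],
    [-2, 0, 2, 0, 0, 0, 0, 0, 0, 0, 0, -2, 0, 0, -2, 0, 0, 0, 0, 0, -2, -2, 6, 2],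
    [0, 2, 0, 2, 2, 2, 2, -2, -2, -2, 2, 0, 2, 2, 0, -2, 2, 2, -2, -2, 0, 0, 0, 0],
    [0, 2, 0, -2, -2, -2, 2, -2, 2, 2, 2, 0, 2, 2, 0, 2, -2, 2, 2, -2, 0, 0, 0, 0],
    [-2, 0, 2, 0, 0, 0, 0, 0, 0, 0, 0, -2, 0, 0, 6, 0, 0, 0, 0, 0, -2, -2, -2, 2],
    [0, 2, 0, 2, -2, 2, 2, 2, 2, -2, -2, 0, -2, 2, 0, 2, -2, 2, -2, 2, 0, 0, 0, 0],
    [0, 2, 0, 2, -2, -2, 2, 2, 2, -2, 2, 0, 2, -2, 0, -2, 2, -2, 2, 2, 0, 0, 0, 0],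
    [0, -2, 0, 2, 2, -2, -2, 2, -2, -2, 2, 0, 2, 2, 0, 2, -2, 2, 2, 2, 0, 0, 0, 0],
    [0, 2, 0, -2, 2, -2, 2, 2, -2, 2, -2, 0, -2, 2, 0, -2, 2, 2, 2, 2, 0, 0, 0, 0],
    [0, 2, 0, 2, -2, 2, -2, -2, -2, 2, 2, 0, -2, -2, 0, 2, 2, 2, 2, 2, 0, 0, 0, 0],
    [-2, 0, 2, 0, 0, 0, 0, 0, 0, 0, 0, -2, 0, 0, -2, 0, 0, 0, 0, 0, 6, -2, -2, 2],
    [-2, 0, 2, 0, 0, 0, 0, 0, 0, 0, 0, -2, 0, 0, -2, 0, 0, 0, 0, 0, -2, 6, -2, 2],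
    [-2, 0, 2, 0, 0, 0, 0, 0, 0, 0, 0, 6, 0, 0, -2, 0, 0, 0, 0, 0, -2, -2, -2, 2],
    [2, 0, -2, 0, 0, 0, 0, 0, 0, 0, 0, 2, 0, 0, 2, 0, 0, 0, 0, 0, 2, 2, 2, 6]]

/-- Element 12. -/
def el12 : List (List ℤ) :=
  [[-6, 0, 2, 0, 0, 2, 0, 2, 0, 0, 2, 0, 0, 0, 0, 2, 0, 2, 0, 2, 0, 0, 0, 0],
    [0, -2, 0, -2, 2, 0, 2, 0, -2, -2, 0, 2, 2, -2, 2, 0, -2, 0, 2, 0, 2, -2, -2, 2],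
    [2, 0, -6, 0, 0, 2, 0, 2, 0, 0, 2, 0, 0, 0, 0, 2, 0, 2, 0, 2, 0, 0, 0, 0],
    [0, -2, 0, -2, 2, 0, -2, 0, -2, 2, 0, -2, 2, 2, 2, 0, -2, 0, -2, 0, -2, 2, 2, 2],
    [0, 2, 0, 2, -2, 0, 2, 0, -2, 2, 0, -2, -2, -2, 2, 0, -2, 0, -2, 0, 2, 2, -2, 2],
    [2, 0, 2, 0, 0, 2, 0, 2, 0, 0, 2, 0, 0, 0, 0, 2, 0, 2, 0, -6, 0, 0, 0, 0],
    [0, 2, 0, -2, 2, 0, 2, 0, 2, -2, 0, 2, -2, -2, -2, 0, -2, 0, -2, 0, -2, 2, 2, 2],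
    [2, 0, 2, 0, 0, 2, 0, 2, 0, 0, -6, 0, 0, 0, 0, 2, 0, 2, 0, 2, 0, 0, 0, 0],
    [0, -2, 0, -2, -2, 0, 2, 0, 2, -2, 0, -2, -2, 2, 2, 0, 2, 0, -2, 0, 2, -2, 2, 2],
    [0, -2, 0, 2, 2, 0, -2, 0, -2, -2, 0, -2, -2, -2, -2, 0, 2, 0, 2, 0, 2, 2, 2, 2],
    [2, 0, 2, 0, 0, 2, 0, -6, 0, 0, 2, 0, 0, 0, 0, 2, 0, 2, 0, 2, 0, 0, 0, 0],
    [0, 2, 0, -2, -2, 0, 2, 0, -2, -2, 0, -2, 2, 2, -2, 0, 2, 0, 2, 0, -2, 2, -2, 2],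
    [0, 2, 0, 2, -2, 0, -2, 0, -2, -2, 0, 2, -2, 2, 2, 0, -2, 0, 2, 0, -2, -2, 2, 2],
    [0, -2, 0, 2, -2, 0, -2, 0, 2, -2, 0, 2, 2, 2, -2, 0, -2, 0, -2, 0, 2, 2, -2, 2],
    [0, 2, 0, 2, 2, 0, -2, 0, 2, -2, 0, -2, 2, -2, 2, 0, 2, 0, -2, 0, -2, -2, -2, 2],
    [2, 0, 2, 0, 0, 2, 0, 2, 0, 0, 2, 0, 0, 0, 0, 2, 0, -6, 0, 2, 0, 0, 0, 0],
    [0, -2, 0, -2, -2, 0, -2, 0, 2, 2, 0, 2, -2, -2, 2, 0, 2, 0, 2, 0, -2, 2, -2, 2],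
    [2, 0, 2, 0, 0, 2, 0, 2, 0, 0, 2, 0, 0, 0, 0, -6, 0, 2, 0, 2, 0, 0, 0, 0],
    [0, 2, 0, -2, -2, 0, -2, 0, -2, 2, 0, 2, 2, -2, -2, 0, 2, 0, -2, 0, 2, -2, 2, 2],
    [2, 0, 2, 0, 0, -6, 0, 2, 0, 0, 2, 0, 0, 0, 0, 2, 0, 2, 0, 2, 0, 0, 0, 0],
    [0, 2, 0, -2, 2, 0, -2, 0, 2, 2, 0, -2, -2, 2, -2, 0, -2, 0, 2, 0, 2, -2, -2, 2],
    [0, -2, 0, 2, 2, 0, 2, 0, -2, 2, 0, 2, -2, 2, -2, 0, 2, 0, -2, 0, -2, -2, -2, 2],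
    [0, -2, 0, 2, -2, 0, 2, 0, 2, 2, 0, -2, 2, -2, -2, 0, -2, 0, 2, 0, -2, -2, 2, 2],
    [0, 2, 0, 2, 2, 0, 2, 0, 2, 2, 0, 2, 2, 2, 2, 0, 2, 0, 2, 0, 2, 2, 2, 2]]

/-- Element 13. -/
def el13 : List (List ℤ) :=
  [[8, 0, 0, 0, 0, 0, 0, 0, 0, 0, 0, 0, 0, 0, 0, 0, 0, 0, 0, 0, 0, 0, 0, 0],
    [0, 0, 0, 0, 0, 0, 0, 0, 8, 0, 0, 0, 0, 0, 0, 0, 0, 0, 0, 0, 0, 0, 0, 0],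
    [0, 0, 0, 0, 0, 0, 0, 0, 0, 0, 0, 0, 8, 0, 0, 0, 0, 0, 0, 0, 0, 0, 0, 0],
    [0, 0, 0, 0, 0, 0, 8, 0, 0, 0, 0, 0, 0, 0, 0, 0, 0, 0, 0, 0, 0, 0, 0, 0],
    [0, 0, 0, 0, 0, 0, 0, 0, 0, 8, 0, 0, 0, 0, 0, 0, 0, 0, 0, 0, 0, 0, 0, 0],
    [0, 0, 0, 0, 0, 0, 0, 0, 0, 0, 0, 0, 0, 0, 8, 0, 0, 0, 0, 0, 0, 0, 0, 0],
    [0, 0, 0, 8, 0, 0, 0, 0, 0, 0, 0, 0, 0, 0, 0, 0, 0, 0, 0, 0, 0, 0, 0, 0],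
    [0, 0, 0, 0, 0, 0, 0, 0, 0, 0, 0, 0, 0, 0, 0, 0, 0, 0, 0, 8, 0, 0, 0, 0],
    [0, 8, 0, 0, 0, 0, 0, 0, 0, 0, 0, 0, 0, 0, 0, 0, 0, 0, 0, 0, 0, 0, 0, 0],
    [0, 0, 0, 0, 8, 0, 0, 0, 0, 0, 0, 0, 0, 0, 0, 0, 0, 0, 0, 0, 0, 0, 0, 0],
    [0, 0, 0, 0, 0, 0, 0, 0, 0, 0, 8, 0, 0, 0, 0, 0, 0, 0, 0, 0, 0, 0, 0, 0],
    [0, 0, 0, 0, 0, 0, 0, 0, 0, 0, 0, 8, 0, 0, 0, 0, 0, 0, 0, 0, 0, 0, 0, 0],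
    [0, 0, 8, 0, 0, 0, 0, 0, 0, 0, 0, 0, 0, 0, 0, 0, 0, 0, 0, 0, 0, 0, 0, 0],
    [0, 0, 0, 0, 0, 0, 0, 0, 0, 0, 0, 0, 0, 8, 0, 0, 0, 0, 0, 0, 0, 0, 0, 0],
    [0, 0, 0, 0, 0, 8, 0, 0, 0, 0, 0, 0, 0, 0, 0, 0, 0, 0, 0, 0, 0, 0, 0, 0],
    [0, 0, 0, 0, 0, 0, 0, 0, 0, 0, 0, 0, 0, 0, 0, 0, 0, 0, 0, 0, 0, 0, 8, 0],
    [0, 0, 0, 0, 0, 0, 0, 0, 0, 0, 0, 0, 0, 0, 0, 0, 8, 0, 0, 0, 0, 0, 0, 0],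
    [0, 0, 0, 0, 0, 0, 0, 0, 0, 0, 0, 0, 0, 0, 0, 0, 0, 0, 0, 0, 0, 8, 0, 0],
    [0, 0, 0, 0, 0, 0, 0, 0, 0, 0, 0, 0, 0, 0, 0, 0, 0, 0, 8, 0, 0, 0, 0, 0],
    [0, 0, 0, 0, 0, 0, 0, 8, 0, 0, 0, 0, 0, 0, 0, 0, 0, 0, 0, 0, 0, 0, 0, 0],
    [0, 0, 0, 0, 0, 0, 0, 0, 0, 0, 0, 0, 0, 0, 0, 0, 0, 0, 0, 0, 8, 0, 0, 0],
    [0, 0, 0, 0, 0, 0, 0, 0, 0, 0, 0, 0, 0, 0, 0, 0, 0, 8, 0, 0, 0, 0, 0, 0],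
    [0, 0, 0, 0, 0, 0, 0, 0, 0, 0, 0, 0, 0, 0, 0, 8, 0, 0, 0, 0, 0, 0, 0, 0],
    [0, 0, 0, 0, 0, 0, 0, 0, 0, 0, 0, 0, 0, 0, 0, 0, 0, 0, 0, 0, 0, 0, 0, 8]]

/-- Element 14. -/
def el14 : List (List ℤ) :=
  [[-6, 0, 0, 0, 0, 2, 0, 0, 0, 0, 2, 2, 0, 0, 2, 0, 2, 2, 0, 0, 0, 2, 0, 0],
    [0, -2, -2, 2, -2, 0, 2, 2, -2, -2, 0, 0, -2, 2, 0, -2, 0, 0, 2, 2, 2, 0, -2, 2],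
    [0, -2, 2, -2, -2, 0, -2, 2, 2, 2, 0, 0, -2, -2, 0, 2, 0, 0, 2, 2, -2, 0, -2, 2],
    [0, 2, -2, -2, 2, 0, -2, 2, -2, -2, 0, 0, 2, -2, 0, -2, 0, 0, 2, 2, -2, 0, 2, 2],
    [0, -2, -2, 2, 2, 0, -2, 2, -2, 2, 0, 0, 2, -2, 0, 2, 0, 0, -2, -2, 2, 0, -2, 2],
    [2, 0, 0, 0, 0, 2, 0, 0, 0, 0, 2, 2, 0, 0, -6, 0, 2, 2, 0, 0, 0, 2, 0, 0],
    [0, 2, -2, -2, -2, 0, 2, 2, -2, 2, 0, 0, -2, 2, 0, 2, 0, 0, -2, -2, -2, 0, 2, 2],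
    [0, 2, 2, 2, 2, 0, 2, -2, -2, -2, 0, 0, -2, -2, 0, 2, 0, 0, 2, -2, -2, 0, -2, 2],
    [0, -2, 2, -2, -2, 0, -2, -2, -2, -2, 0, 0, 2, 2, 0, 2, 0, 0, 2, -2, 2, 0, 2, 2],
    [0, -2, 2, -2, 2, 0, 2, -2, -2, 2, 0, 0, -2, -2, 0, -2, 0, 0, -2, 2, 2, 0, 2, 2],
    [2, 0, 0, 0, 0, 2, 0, 0, 0, 0, 2, 2, 0, 0, 2, 0, 2, 2, 0, 0, 0, -6, 0, 0],
    [2, 0, 0, 0, 0, 2, 0, 0, 0, 0, 2, 2, 0, 0, 2, 0, 2, -6, 0, 0, 0, 2, 0, 0],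
    [0, -2, -2, 2, 2, 0, -2, -2, 2, -2, 0, 0, -2, 2, 0, 2, 0, 0, -2, 2, -2, 0, 2, 2],
    [0, 2, -2, -2, -2, 0, 2, -2, 2, -2, 0, 0, 2, -2, 0, 2, 0, 0, -2, 2, 2, 0, -2, 2],
    [2, 0, 0, 0, 0, -6, 0, 0, 0, 0, 2, 2, 0, 0, 2, 0, 2, 2, 0, 0, 0, 2, 0, 0],
    [0, -2, 2, -2, 2, 0, 2, 2, 2, -2, 0, 0, 2, 2, 0, -2, 0, 0, -2, -2, -2, 0, -2, 2],
    [2, 0, 0, 0, 0, 2, 0, 0, 0, 0, 2, 2, 0, 0, 2, 0, -6, 2, 0, 0, 0, 2, 0, 0],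
    [2, 0, 0, 0, 0, 2, 0, 0, 0, 0, 2, -6, 0, 0, 2, 0, 2, 2, 0, 0, 0, 2, 0, 0],
    [0, 2, 2, 2, -2, 0, -2, 2, 2, -2, 0, 0, -2, -2, 0, -2, 0, 0, -2, -2, 2, 0, 2, 2],
    [0, 2, 2, 2, -2, 0, -2, -2, -2, 2, 0, 0, 2, 2, 0, -2, 0, 0, -2, 2, -2, 0, -2, 2],
    [0, 2, -2, -2, 2, 0, -2, -2, 2, 2, 0, 0, -2, 2, 0, -2, 0, 0, 2, -2, 2, 0, -2, 2],
    [2, 0, 0, 0, 0, 2, 0, 0, 0, 0, -6, 2, 0, 0, 2, 0, 2, 2, 0, 0, 0, 2, 0, 0],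
    [0, -2, -2, 2, -2, 0, 2, -2, 2, 2, 0, 0, 2, -2, 0, -2, 0, 0, 2, -2, -2, 0, 2, 2],
    [0, 2, 2, 2, 2, 0, 2, 2, 2, 2, 0, 0, 2, 2, 0, 2, 0, 0, 2, 2, 2, 0, 2, 2]]

/-- Element 15. -/
def el15 : List (List ℤ) :=
  [[-4, 0, 0, 0, 0, 2, 0, 2, 0, 0, 2, 2, 0, 0, 2, 2, 0, 2, 0, 2, 2, 2, 2, -2],
    [0, 0, 0, 0, -4, -2, 0, 2, 0, 0, 2, 2, 0, 0, 2, 2, 0, -2, 0, -2, 2, -2, -2, 2],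
    [0, 0, 0, 0, 0, 2, -4, 2, 0, 0, -2, 2, 0, 0, -2, 2, 0, -2, 0, -2, -2, 2, 2, 2],
    [0, 0, 0, -4, 0, -2, 0, -2, 0, 0, -2, 2, 0, 0, 2, 2, 0, 2, 0, 2, -2, -2, 2, 2],
    [0, -4, 0, 0, 0, 2, 0, -2, 0, 0, -2, -2, 0, 0, 2, 2, 0, -2, 0, 2, 2, 2, -2, 2],
    [2, -2, 2, -2, 2, 0, 2, 4, 2, -2, 0, 0, 2, 2, 0, 0, -2, 0, -2, 0, 0, 0, 0, 0],
    [0, 0, -4, 0, 0, 2, 0, 2, 0, 0, 2, -2, 0, 0, -2, 2, 0, 2, 0, 2, -2, -2, -2, 2],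
    [2, 2, 2, -2, -2, 4, 2, 0, 2, 2, 0, 0, -2, -2, 0, 0, 2, 0, -2, 0, 0, 0, 0, 0],
    [0, 0, 0, 0, 0, 2, 0, 2, -4, 0, -2, -2, 0, 0, 2, -2, 0, 2, 0, -2, 2, -2, 2, 2],
    [0, 0, 0, 0, 0, -2, 0, 2, 0, 0, -2, 2, 0, -4, -2, -2, 0, 2, 0, 2, 2, 2, -2, 2],
    [2, 2, -2, -2, -2, 0, 2, 0, -2, -2, 0, 0, 2, 2, 0, 0, 2, 0, 2, 0, 0, 4, 0, 0],
    [2, 2, 2, 2, -2, 0, -2, 0, -2, 2, 0, 0, 2, 2, 0, 0, -2, 0, -2, 4, 0, 0, 0, 0],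
    [0, 0, 0, 0, 0, 2, 0, -2, 0, 0, 2, 2, 0, 0, 2, -2, -4, 2, 0, -2, -2, 2, -2, 2],
    [0, 0, 0, 0, 0, 2, 0, -2, 0, -4, 2, 2, 0, 0, -2, -2, 0, -2, 0, 2, 2, -2, 2, 2],
    [2, 2, -2, 2, 2, 0, -2, 0, 2, -2, 0, 0, 2, -2, 4, 0, 2, 0, -2, 0, 0, 0, 0, 0],
    [2, 2, 2, 2, 2, 0, 2, 0, -2, -2, 0, 0, -2, -2, 0, 4, -2, 0, 2, 0, 0, 0, 0, 0],
    [0, 0, 0, 0, 0, -2, 0, 2, 0, 0, 2, -2, -4, 0, 2, -2, 0, -2, 0, 2, -2, 2, 2, 2],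
    [2, -2, -2, 2, -2, 0, 2, 0, 2, 2, 0, 0, 2, -2, 0, 0, -2, 0, 2, 0, 0, 0, 4, 0],
    [0, 0, 0, 0, 0, -2, 0, -2, 0, 0, 2, -2, 0, 0, -2, 2, 0, 2, -4, -2, 2, 2, 2, 2],
    [2, -2, -2, 2, 2, 0, 2, 0, -2, 2, 0, 4, -2, 2, 0, 0, 2, 0, -2, 0, 0, 0, 0, 0],
    [2, 2, -2, -2, 2, 0, -2, 0, 2, 2, 0, 0, -2, 2, 0, 0, -2, 0, 2, 0, 4, 0, 0, 0],
    [2, -2, 2, -2, 2, 0, -2, 0, -2, 2, 4, 0, 2, -2, 0, 0, 2, 0, 2, 0, 0, 0, 0, 0],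
    [2, -2, 2, 2, -2, 0, -2, 0, 2, -2, 0, 0, -2, 2, 0, 0, 2, 4, 2, 0, 0, 0, 0, 0],
    [-2, 2, 2, 2, 2, 0, 2, 0, 2, 2, 0, 0, 2, 2, 0, 0, 2, 0, 2, 0, 0, 0, 0, 4]]

/-- Element 16. -/
def el16 : List (List ℤ) :=
  [[6, 0, 0, 0, 0, 0, 0, -2, 0, 0, 0, 0, 0, 0, 0, -2, 2, 0, 0, -2, -2, 0, -2, 2],
    [0, 2, 2, -2, 2, -2, 2, 0, 2, -2, 2, 2, -2, 2, 2, 0, 0, -2, 2, 0, 0, -2, 0, 0],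
    [0, 2, 2, 2, 2, 2, 2, 0, -2, -2, 2, -2, 2, 2, -2, 0, 0, 2, -2, 0, 0, -2, 0, 0],
    [0, -2, 2, 2, 2, 2, 2, 0, 2, -2, -2, 2, 2, -2, -2, 0, 0, -2, 2, 0, 0, 2, 0, 0],
    [0, 2, 2, 2, 2, 2, -2, 0, -2, 2, -2, -2, -2, 2, 2, 0, 0, -2, 2, 0, 0, 2, 0, 0],
    [0, -2, 2, 2, 2, 2, -2, 0, 2, 2, 2, 2, -2, -2, 2, 0, 0, 2, -2, 0, 0, -2, 0, 0],
    [0, 2, 2, 2, -2, -2, 2, 0, -2, 2, -2, 2, 2, -2, 2, 0, 0, 2, 2, 0, 0, -2, 0, 0],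
    [-2, 0, 0, 0, 0, 0, 0, -2, 0, 0, 0, 0, 0, 0, 0, -2, 2, 0, 0, 6, -2, 0, -2, 2],
    [0, 2, -2, 2, -2, 2, -2, 0, 2, 2, 2, 2, 2, 2, -2, 0, 0, -2, 2, 0, 0, -2, 0, 0],
    [0, -2, -2, -2, 2, 2, 2, 0, 2, 2, -2, -2, 2, 2, 2, 0, 0, 2, 2, 0, 0, -2, 0, 0],
    [0, 2, 2, -2, -2, 2, -2, 0, 2, -2, 2, -2, 2, -2, 2, 0, 0, 2, 2, 0, 0, 2, 0, 0],
    [0, 2, -2, 2, -2, 2, 2, 0, 2, -2, -2, 2, -2, 2, 2, 0, 0, 2, -2, 0, 0, 2, 0, 0],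
    [0, -2, 2, 2, -2, -2, 2, 0, 2, 2, 2, -2, 2, 2, 2, 0, 0, -2, -2, 0, 0, 2, 0, 0],
    [0, 2, 2, -2, 2, -2, -2, 0, 2, 2, -2, 2, 2, 2, -2, 0, 0, 2, -2, 0, 0, 2, 0, 0],
    [0, 2, -2, -2, 2, 2, 2, 0, -2, 2, 2, 2, 2, -2, 2, 0, 0, -2, -2, 0, 0, 2, 0, 0],
    [-2, 0, 0, 0, 0, 0, 0, -2, 0, 0, 0, 0, 0, 0, 0, 6, 2, 0, 0, -2, -2, 0, -2, 2],
    [2, 0, 0, 0, 0, 0, 0, 2, 0, 0, 0, 0, 0, 0, 0, 2, 6, 0, 0, 2, 2, 0, 2, -2],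
    [0, -2, 2, -2, -2, 2, 2, 0, -2, 2, 2, 2, -2, 2, -2, 0, 0, 2, 2, 0, 0, 2, 0, 0],
    [0, 2, -2, 2, 2, -2, 2, 0, 2, 2, 2, -2, -2, -2, -2, 0, 0, 2, 2, 0, 0, 2, 0, 0],
    [-2, 0, 0, 0, 0, 0, 0, 6, 0, 0, 0, 0, 0, 0, 0, -2, 2, 0, 0, -2, -2, 0, -2, 2],
    [-2, 0, 0, 0, 0, 0, 0, -2, 0, 0, 0, 0, 0, 0, 0, -2, 2, 0, 0, -2, 6, 0, -2, 2],
    [0, -2, -2, 2, 2, -2, -2, 0, -2, -2, 2, 2, 2, 2, 2, 0, 0, 2, 2, 0, 0, 2, 0, 0],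
    [-2, 0, 0, 0, 0, 0, 0, -2, 0, 0, 0, 0, 0, 0, 0, -2, 2, 0, 0, -2, -2, 0, 6, 2],
    [2, 0, 0, 0, 0, 0, 0, 2, 0, 0, 0, 0, 0, 0, 0, 2, -2, 0, 0, 2, 2, 0, 2, 6]]

/-- Element 17. -/
def el17 : List (List ℤ) :=
  [[-4, 0, 0, 0, 0, 2, 0, 2, 0, 0, 2, 2, 0, 0, 2, 2, 0, 2, 0, 2, 2, 2, 2, -2],
    [0, -4, 0, 0, 0, 2, 0, -2, 0, 0, -2, -2, 0, 0, 2, 2, 0, -2, 0, 2, 2, 2, -2, 2],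
    [0, 0, 0, 0, 0, -2, 0, 2, 0, 0, 2, -2, -4, 0, 2, -2, 0, -2, 0, 2, -2, 2, 2, 2],
    [0, 0, 0, -4, 0, -2, 0, -2, 0, 0, -2, 2, 0, 0, 2, 2, 0, 2, 0, 2, -2, -2, 2, 2],
    [0, 0, 0, 0, -4, -2, 0, 2, 0, 0, 2, 2, 0, 0, 2, 2, 0, -2, 0, -2, 2, -2, -2, 2],
    [2, 2, -2, -2, -2, 0, 2, 0, -2, -2, 0, 0, 2, 2, 0, 0, 2, 0, 2, 0, 0, 4, 0, 0],
    [0, 0, 0, 0, 0, 2, 0, -2, 0, 0, 2, 2, 0, 0, 2, -2, -4, 2, 0, -2, -2, 2, -2, 2],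
    [2, -2, 2, -2, 2, 0, -2, 0, -2, 2, 4, 0, 2, -2, 0, 0, 2, 0, 2, 0, 0, 0, 0, 0],
    [0, 0, 0, 0, 0, -2, 0, -2, 0, 0, 2, -2, 0, 0, -2, 2, 0, 2, -4, -2, 2, 2, 2, 2],
    [0, 0, 0, 0, 0, -2, 0, 2, 0, 0, -2, 2, 0, -4, -2, -2, 0, 2, 0, 2, 2, 2, -2, 2],
    [2, -2, 2, -2, 2, 0, 2, 4, 2, -2, 0, 0, 2, 2, 0, 0, -2, 0, -2, 0, 0, 0, 0, 0],
    [2, -2, -2, 2, 2, 0, 2, 0, -2, 2, 0, 4, -2, 2, 0, 0, 2, 0, -2, 0, 0, 0, 0, 0],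
    [0, 0, -4, 0, 0, 2, 0, 2, 0, 0, 2, -2, 0, 0, -2, 2, 0, 2, 0, 2, -2, -2, -2, 2],
    [0, 0, 0, 0, 0, 2, 0, -2, 0, -4, 2, 2, 0, 0, -2, -2, 0, -2, 0, 2, 2, -2, 2, 2],
    [2, 2, 2, 2, 2, 0, 2, 0, -2, -2, 0, 0, -2, -2, 0, 4, -2, 0, 2, 0, 0, 0, 0, 0],
    [2, 2, -2, 2, 2, 0, -2, 0, 2, -2, 0, 0, 2, -2, 4, 0, 2, 0, -2, 0, 0, 0, 0, 0],
    [0, 0, 0, 0, 0, 2, -4, 2, 0, 0, -2, 2, 0, 0, -2, 2, 0, -2, 0, -2, -2, 2, 2, 2],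
    [2, -2, -2, 2, -2, 0, 2, 0, 2, 2, 0, 0, 2, -2, 0, 0, -2, 0, 2, 0, 0, 0, 4, 0],
    [0, 0, 0, 0, 0, 2, 0, 2, -4, 0, -2, -2, 0, 0, 2, -2, 0, 2, 0, -2, 2, -2, 2, 2],
    [2, 2, 2, 2, -2, 0, -2, 0, -2, 2, 0, 0, 2, 2, 0, 0, -2, 0, -2, 4, 0, 0, 0, 0],
    [2, 2, -2, -2, 2, 0, -2, 0, 2, 2, 0, 0, -2, 2, 0, 0, -2, 0, 2, 0, 4, 0, 0, 0],
    [2, 2, 2, -2, -2, 4, 2, 0, 2, 2, 0, 0, -2, -2, 0, 0, 2, 0, -2, 0, 0, 0, 0, 0],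
    [2, -2, 2, 2, -2, 0, -2, 0, 2, -2, 0, 0, -2, 2, 0, 0, 2, 4, 2, 0, 0, 0, 0, 0],
    [-2, 2, 2, 2, 2, 0, 2, 0, 2, 2, 0, 0, 2, 2, 0, 0, 2, 0, 2, 0, 0, 0, 0, 4]]

/-- Element 18. -/
def el18 : List (List ℤ) :=
  [[-6, 0, 0, 0, 0, 0, 0, 2, 0, 0, 2, 0, 2, 0, 2, 0, 0, 0, 0, 2, 0, 2, 2, 0],
    [0, 2, -2, 2, -2, 2, -2, 0, -2, -2, 0, -2, 0, 2, 0, 2, 2, -2, -2, 0, 2, 0, 0, 2],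
    [0, -2, -2, -2, -2, 2, 2, 0, 2, -2, 0, 2, 0, 2, 0, 2, -2, -2, 2, 0, -2, 0, 0, 2],
    [0, 2, -2, 2, -2, -2, -2, 0, 2, 2, 0, 2, 0, -2, 0, 2, -2, 2, -2, 0, -2, 0, 0, 2],
    [0, -2, -2, -2, -2, -2, 2, 0, -2, 2, 0, -2, 0, -2, 0, 2, 2, 2, 2, 0, 2, 0, 0, 2],
    [0, 2, 2, -2, -2, 2, 2, 0, 2, 2, 0, -2, 0, -2, 0, -2, 2, -2, -2, 0, -2, 0, 0, 2],
    [0, -2, 2, -2, 2, 2, -2, 0, -2, 2, 0, -2, 0, 2, 0, 2, -2, 2, -2, 0, -2, 0, 0, 2],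
    [2, 0, 0, 0, 0, 0, 0, 2, 0, 0, 2, 0, 2, 0, -6, 0, 0, 0, 0, 2, 0, 2, 2, 0],
    [0, -2, 2, 2, -2, 2, -2, 0, -2, 2, 0, 2, 0, -2, 0, -2, -2, -2, 2, 0, 2, 0, 0, 2],
    [0, -2, -2, 2, 2, 2, 2, 0, 2, -2, 0, -2, 0, -2, 0, -2, -2, 2, -2, 0, 2, 0, 0, 2],
    [2, 0, 0, 0, 0, 0, 0, 2, 0, 0, 2, 0, 2, 0, 2, 0, 0, 0, 0, -6, 0, 2, 2, 0],
    [0, -2, 2, 2, -2, -2, -2, 0, 2, -2, 0, -2, 0, 2, 0, -2, 2, 2, 2, 0, -2, 0, 0, 2],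
    [2, 0, 0, 0, 0, 0, 0, 2, 0, 0, 2, 0, -6, 0, 2, 0, 0, 0, 0, 2, 0, 2, 2, 0],
    [0, 2, 2, -2, -2, -2, 2, 0, -2, -2, 0, 2, 0, 2, 0, -2, -2, 2, -2, 0, 2, 0, 0, 2],
    [2, 0, 0, 0, 0, 0, 0, -6, 0, 0, 2, 0, 2, 0, 2, 0, 0, 0, 0, 2, 0, 2, 2, 0],
    [0, 2, 2, 2, 2, -2, 2, 0, -2, -2, 0, -2, 0, -2, 0, 2, -2, -2, 2, 0, -2, 0, 0, 2],
    [0, 2, -2, -2, 2, 2, -2, 0, -2, -2, 0, 2, 0, -2, 0, -2, 2, 2, 2, 0, -2, 0, 0, 2],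
    [0, -2, -2, 2, 2, -2, 2, 0, -2, 2, 0, 2, 0, 2, 0, -2, 2, -2, -2, 0, -2, 0, 0, 2],
    [0, -2, 2, -2, 2, -2, -2, 0, 2, -2, 0, 2, 0, -2, 0, 2, 2, -2, -2, 0, 2, 0, 0, 2],
    [2, 0, 0, 0, 0, 0, 0, 2, 0, 0, -6, 0, 2, 0, 2, 0, 0, 0, 0, 2, 0, 2, 2, 0],
    [0, 2, -2, -2, 2, -2, -2, 0, 2, 2, 0, -2, 0, 2, 0, -2, -2, -2, 2, 0, 2, 0, 0, 2],
    [2, 0, 0, 0, 0, 0, 0, 2, 0, 0, 2, 0, 2, 0, 2, 0, 0, 0, 0, 2, 0, 2, -6, 0],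
    [2, 0, 0, 0, 0, 0, 0, 2, 0, 0, 2, 0, 2, 0, 2, 0, 0, 0, 0, 2, 0, -6, 2, 0],
    [0, 2, 2, 2, 2, 2, 2, 0, 2, 2, 0, 2, 0, 2, 0, 2, 2, 2, 2, 0, 2, 0, 0, 2]]

/-- Element 19. -/
def el19 : List (List ℤ) :=
  [[8, 0, 0, 0, 0, 0, 0, 0, 0, 0, 0, 0, 0, 0, 0, 0, 0, 0, 0, 0, 0, 0, 0, 0],
    [0, 0, 0, 0, 8, 0, 0, 0, 0, 0, 0, 0, 0, 0, 0, 0, 0, 0, 0, 0, 0, 0, 0, 0],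
    [0, 0, 0, 0, 0, 0, 0, 0, 0, 0, 0, 0, 0, 0, 0, 0, 8, 0, 0, 0, 0, 0, 0, 0],
    [0, 0, 0, 8, 0, 0, 0, 0, 0, 0, 0, 0, 0, 0, 0, 0, 0, 0, 0, 0, 0, 0, 0, 0],
    [0, 8, 0, 0, 0, 0, 0, 0, 0, 0, 0, 0, 0, 0, 0, 0, 0, 0, 0, 0, 0, 0, 0, 0],
    [0, 0, 0, 0, 0, 0, 0, 0, 0, 0, 8, 0, 0, 0, 0, 0, 0, 0, 0, 0, 0, 0, 0, 0],
    [0, 0, 0, 0, 0, 0, 0, 0, 0, 0, 0, 0, 8, 0, 0, 0, 0, 0, 0, 0, 0, 0, 0, 0],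
    [0, 0, 0, 0, 0, 0, 0, 0, 0, 0, 0, 0, 0, 0, 0, 0, 0, 0, 0, 0, 0, 8, 0, 0],
    [0, 0, 0, 0, 0, 0, 0, 0, 0, 0, 0, 0, 0, 0, 0, 0, 0, 0, 8, 0, 0, 0, 0, 0],
    [0, 0, 0, 0, 0, 0, 0, 0, 0, 8, 0, 0, 0, 0, 0, 0, 0, 0, 0, 0, 0, 0, 0, 0],
    [0, 0, 0, 0, 0, 8, 0, 0, 0, 0, 0, 0, 0, 0, 0, 0, 0, 0, 0, 0, 0, 0, 0, 0],
    [0, 0, 0, 0, 0, 0, 0, 0, 0, 0, 0, 0, 0, 0, 0, 0, 0, 0, 0, 8, 0, 0, 0, 0],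
    [0, 0, 0, 0, 0, 0, 8, 0, 0, 0, 0, 0, 0, 0, 0, 0, 0, 0, 0, 0, 0, 0, 0, 0],
    [0, 0, 0, 0, 0, 0, 0, 0, 0, 0, 0, 0, 0, 8, 0, 0, 0, 0, 0, 0, 0, 0, 0, 0],
    [0, 0, 0, 0, 0, 0, 0, 0, 0, 0, 0, 0, 0, 0, 0, 8, 0, 0, 0, 0, 0, 0, 0, 0],
    [0, 0, 0, 0, 0, 0, 0, 0, 0, 0, 0, 0, 0, 0, 8, 0, 0, 0, 0, 0, 0, 0, 0, 0],
    [0, 0, 8, 0, 0, 0, 0, 0, 0, 0, 0, 0, 0, 0, 0, 0, 0, 0, 0, 0, 0, 0, 0, 0],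
    [0, 0, 0, 0, 0, 0, 0, 0, 0, 0, 0, 0, 0, 0, 0, 0, 0, 8, 0, 0, 0, 0, 0, 0],
    [0, 0, 0, 0, 0, 0, 0, 0, 8, 0, 0, 0, 0, 0, 0, 0, 0, 0, 0, 0, 0, 0, 0, 0],
    [0, 0, 0, 0, 0, 0, 0, 0, 0, 0, 0, 8, 0, 0, 0, 0, 0, 0, 0, 0, 0, 0, 0, 0],
    [0, 0, 0, 0, 0, 0, 0, 0, 0, 0, 0, 0, 0, 0, 0, 0, 0, 0, 0, 0, 8, 0, 0, 0],
    [0, 0, 0, 0, 0, 0, 0, 8, 0, 0, 0, 0, 0, 0, 0, 0, 0, 0, 0, 0, 0, 0, 0, 0],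
    [0, 0, 0, 0, 0, 0, 0, 0, 0, 0, 0, 0, 0, 0, 0, 0, 0, 0, 0, 0, 0, 0, 8, 0],
    [0, 0, 0, 0, 0, 0, 0, 0, 0, 0, 0, 0, 0, 0, 0, 0, 0, 0, 0, 0, 0, 0, 0, 8]]

/-- Element 20. -/
def el20 : List (List ℤ) :=
  [[6, 2, 0, 0, 0, 0, 0, -2, 0, 0, -2, -2, 0, 0, 0, 0, 0, -2, 0, 0, 0, 0, -2, 2],
    [2, 6, 0, 0, 0, 0, 0, 2, 0, 0, 2, 2, 0, 0, 0, 0, 0, 2, 0, 0, 0, 0, 2, -2],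
    [0, 0, -2, 2, 2, 2, 2, 0, -2, 2, 0, 0, 2, -2, -2, -2, 2, 0, 2, 2, 2, -2, 0, 0],
    [0, 0, 2, 2, -2, 2, 2, 0, 2, -2, 0, 0, 2, 2, 2, -2, -2, 0, 2, -2, 2, -2, 0, 0],
    [0, 0, 2, 2, 2, 2, -2, 0, -2, 2, 0, 0, -2, 2, 2, -2, 2, 0, 2, -2, -2, 2, 0, 0],
    [0, 0, 2, -2, -2, 2, 2, 0, -2, 2, 0, 0, -2, 2, -2, 2, -2, 0, 2, 2, 2, 2, 0, 0],
    [0, 0, 2, 2, 2, -2, 2, 0, 2, -2, 0, 0, -2, 2, -2, -2, 2, 0, -2, 2, 2, 2, 0, 0],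
    [-2, 2, 0, 0, 0, 0, 0, -2, 0, 0, -2, 6, 0, 0, 0, 0, 0, -2, 0, 0, 0, 0, -2, 2],
    [0, 0, -2, 2, 2, 2, 2, 0, 2, 2, 0, 0, 2, 2, -2, 2, -2, 0, -2, -2, -2, 2, 0, 0],
    [0, 0, 2, -2, 2, 2, -2, 0, 2, -2, 0, 0, 2, 2, -2, 2, 2, 0, 2, 2, -2, -2, 0, 0],
    [-2, 2, 0, 0, 0, 0, 0, -2, 0, 0, 6, -2, 0, 0, 0, 0, 0, -2, 0, 0, 0, 0, -2, 2],
    [-2, 2, 0, 0, 0, 0, 0, -2, 0, 0, -2, -2, 0, 0, 0, 0, 0, 6, 0, 0, 0, 0, -2, 2],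
    [0, 0, 2, -2, 2, -2, 2, 0, -2, 2, 0, 0, 2, 2, 2, 2, 2, 0, -2, -2, 2, -2, 0, 0],
    [0, 0, -2, 2, -2, -2, 2, 0, 2, 2, 0, 0, -2, 2, 2, 2, 2, 0, 2, 2, -2, -2, 0, 0],
    [0, 0, -2, -2, 2, 2, 2, 0, 2, -2, 0, 0, -2, -2, 2, 2, 2, 0, 2, -2, 2, 2, 0, 0],
    [0, 0, -2, -2, -2, 2, -2, 0, 2, 2, 0, 0, 2, 2, 2, -2, 2, 0, -2, 2, 2, 2, 0, 0],
    [0, 0, 2, 2, -2, -2, -2, 0, 2, 2, 0, 0, 2, -2, -2, 2, 2, 0, 2, -2, 2, 2, 0, 0],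
    [-2, 2, 0, 0, 0, 0, 0, -2, 0, 0, -2, -2, 0, 0, 0, 0, 0, -2, 0, 0, 0, 0, 6, 2],
    [0, 0, 2, -2, 2, -2, 2, 0, 2, 2, 0, 0, 2, -2, 2, -2, -2, 0, 2, 2, -2, 2, 0, 0],
    [0, 0, 2, 2, 2, 2, -2, 0, 2, 2, 0, 0, -2, -2, 2, 2, -2, 0, -2, 2, 2, -2, 0, 0],
    [0, 0, 2, 2, -2, 2, 2, 0, -2, -2, 0, 0, 2, -2, 2, 2, 2, 0, -2, 2, -2, 2, 0, 0],
    [0, 0, -2, 2, 2, -2, -2, 0, -2, -2, 0, 0, 2, 2, 2, 2, -2, 0, 2, 2, 2, 2, 0, 0],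
    [-2, 2, 0, 0, 0, 0, 0, 6, 0, 0, -2, -2, 0, 0, 0, 0, 0, -2, 0, 0, 0, 0, -2, 2],
    [2, -2, 0, 0, 0, 0, 0, 2, 0, 0, 2, 2, 0, 0, 0, 0, 0, 2, 0, 0, 0, 0, 2, 6]]

/-- Element 21. -/
def el21 : List (List ℤ) :=
  [[5, -1, -1, 1, -1, -1, 1, -1, -1, -1, -1, -1, -1, 1, -1, 1, -3, -1, 1, -1, -1, -1, 1, 3],
    [-1, 1, 1, -1, 1, 1, -1, 1, 1, 1, -3, -3, 1, 3, 1, -1, -1, 1, 3, 1, -3, 1, -1, 1],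
    [-1, 1, 1, -1, 1, -3, 3, -3, 1, 1, 1, 1, 1, 3, 1, -1, -1, -3, -1, 1, 1, 1, -1, 1],
    [-1, -3, 1, 3, 1, 1, -1, -3, 1, -3, 1, 1, 1, -1, 1, -1, -1, 1, 3, 1, 1, 1, -1, 1],
    [-1, 1, 1, -1, 1, 1, -1, 1, 1, 1, 1, 1, -3, -1, -3, -1, -1, -3, 3, 1, 1, 1, 3, 1],
    [-1, 1, 1, -1, 1, 1, 3, 1, 1, -3, -3, 1, 1, -1, 1, -1, -1, 1, -1, 1, 1, -3, 3, 1],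
    [-1, 1, 1, -1, 1, 1, -1, 1, -3, -3, 1, 1, -3, 3, 1, 3, -1, 1, -1, 1, 1, 1, -1, 1],
    [-1, 1, 1, 3, 1, 1, -1, 1, 1, 1, 1, 1, 1, 3, -3, -1, -1, 1, -1, -3, 1, -3, -1, 1],
    [-1, 1, -3, 3, 1, 1, 3, 1, 1, 1, 1, 1, -3, -1, 1, -1, -1, 1, -1, 1, -3, 1, -1, 1],
    [1, -1, -1, 1, 3, 3, 1, -1, -1, 3, -1, -1, -1, 1, 3, 1, 1, -1, 1, -1, 3, -1, 1, -1],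
    [1, -1, 3, 1, -1, -1, 1, 3, 3, -1, 3, -1, -1, 1, 3, 1, 1, -1, 1, -1, -1, -1, 1, -1],
    [-1, 1, -3, -1, 1, -3, -1, 1, 1, 1, 1, 1, 1, -1, 1, 3, -1, 1, 3, 1, 1, -3, -1, 1],
    [-1, 1, 1, 3, -3, 1, -1, 1, 1, 1, -3, 1, 1, -1, 1, 3, -1, -3, -1, 1, 1, 1, -1, 1],
    [-1, -3, 1, -1, 1, 1, 3, 1, 1, 1, 1, -3, 1, -1, -3, 3, -1, 1, -1, 1, 1, 1, -1, 1],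
    [1, 3, -1, 1, -1, -1, 1, -1, 3, -1, -1, -1, -1, 1, -1, 1, 1, 3, 1, -1, 3, 3, 1, -1],
    [1, -1, 3, 1, -1, -1, 1, -1, -1, 3, -1, 3, -1, 1, -1, 1, 1, 3, 1, 3, -1, -1, 1, -1],
    [1, 3, -1, 1, -1, 3, 1, -1, -1, -1, 3, -1, 3, 1, -1, 1, 1, -1, 1, 3, -1, -1, 1, -1],
    [-1, 1, 1, 3, 1, -3, -1, 1, -3, 1, 1, -3, 1, -1, 1, -1, -1, 1, -1, 1, 1, 1, 3, 1],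
    [1, -1, -1, 1, 3, -1, 1, 3, -1, -1, -1, 3, 3, 1, -1, 1, 1, -1, 1, -1, -1, 3, 1, -1],
    [-3, -1, -1, 1, -1, -1, 1, -1, -1, -1, -1, -1, -1, 1, -1, 1, 5, -1, 1, -1, -1, -1, 1, 3],
    [-1, 1, 1, -1, -3, 1, 3, 1, -3, 1, 1, 1, 1, -1, 1, -1, -1, 1, 3, -3, 1, 1, -1, 1],
    [-1, -3, -3, -1, -3, 1, -1, 1, 1, 1, 1, 1, 1, 3, 1, -1, -1, 1, -1, 1, 1, 1, 3, 1],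
    [-1, 1, 1, -1, 1, 1, -1, -3, 1, 1, 1, 1, 1, -1, 1, 3, -1, 1, -1, -3, -3, 1, 3, 1],
    [3, 1, 1, -1, 1, 1, -1, 1, 1, 1, 1, 1, 1, -1, 1, -1, 3, 1, -1, 1, 1, 1, -1, 5]]

/-- Element 22. -/
def el22 : List (List ℤ) :=
  [[2, 0, -2, 2, 0, -4, 2, 0, 0, 0, 2, -2, 0, -2, -2, 0, -2, 2, 0, 0, 0, 0, 2, 2],
    [-2, 0, -2, 2, 0, 0, 2, 0, 0, 0, -2, 2, 0, -2, 2, 0, 2, -2, 0, 0, 0, -4, 2, 2],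
    [-2, 0, 2, 2, 0, 0, 2, 0, 0, 0, 2, 2, 0, 2, -2, 0, -2, -2, -4, 0, 0, 0, -2, 2],
    [2, -4, -2, 2, 0, 0, -2, 0, 0, 0, -2, 2, 0, 2, -2, 0, 2, 2, 0, 0, 0, 0, -2, 2],
    [4, 2, 0, 0, 2, 2, 0, 2, 2, -2, 0, 0, 2, 0, 0, 2, 0, 0, -2, -2, -2, -2, 0, 0],
    [0, 2, 0, 4, -2, 2, 0, -2, 2, -2, 0, 0, 2, 0, 0, -2, 0, 0, 2, 2, -2, 2, 0, 0],
    [2, 0, -2, -2, -4, 0, 2, 0, 0, 0, 2, -2, 0, 2, 2, 0, 2, -2, 0, 0, 0, 0, -2, 2],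
    [2, 0, 2, -2, 0, 0, 2, -4, 0, 0, -2, 2, 0, -2, 2, 0, -2, 2, 0, 0, 0, 0, -2, 2],
    [-2, 0, -2, -2, 0, 0, -2, 0, 0, 0, 2, 2, 0, 2, 2, 0, -2, 2, 0, 0, -4, 0, 2, 2],
    [0, -2, 0, 0, -2, 2, 0, -2, 2, 2, 0, 0, 2, 0, 0, 2, 0, 0, -2, -2, 2, 2, 4, 0],
    [2, 0, 2, 2, 0, 0, 2, 0, 0, 0, 2, 2, -4, 2, 2, 0, 2, 2, 0, 0, 0, 0, 2, -2],
    [0, 2, 0, 0, 2, -2, 0, -2, 2, 2, 0, 0, 2, 4, 0, -2, 0, 0, 2, -2, 2, -2, 0, 0],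
    [0, 2, 0, 0, -2, 2, 0, 2, -2, 2, 0, 0, 2, 0, 0, -2, 0, 4, -2, 2, 2, -2, 0, 0],
    [0, -2, 4, 0, -2, -2, 0, 2, 2, 2, 0, 0, 2, 0, 0, 2, 0, 0, 2, 2, -2, -2, 0, 0],
    [2, 0, 2, 2, 0, 0, -2, 0, -4, 0, -2, -2, 0, 2, 2, 0, -2, -2, 0, 0, 0, 0, 2, 2],
    [0, -2, 0, 0, 2, 2, 0, -2, -2, -2, 4, 0, 2, 0, 0, 2, 0, 0, 2, 2, 2, -2, 0, 0],
    [0, 2, 0, 0, 2, -2, 0, -2, -2, 2, 0, 0, 2, 0, 0, 2, 4, 0, -2, 2, -2, 2, 0, 0],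
    [-2, 0, 2, 2, 0, 0, -2, 0, 0, 0, 2, -2, 0, -2, 2, 0, 2, 2, 0, -4, 0, 0, -2, 2],
    [0, -2, 0, 0, 2, -2, 0, 2, 2, -2, 0, 0, 2, 0, 4, -2, 0, 0, -2, 2, 2, 2, 0, 0],
    [-2, 0, 2, -2, 0, 0, 2, 0, 0, -4, -2, -2, 0, 2, -2, 0, 2, 2, 0, 0, 0, 0, 2, 2],
    [0, 2, 0, 0, -2, -2, 0, 2, -2, -2, 0, 4, 2, 0, 0, 2, 0, 0, 2, -2, 2, 2, 0, 0],
    [0, -2, 0, 0, 2, 2, 4, 2, -2, 2, 0, 0, 2, 0, 0, -2, 0, 0, 2, -2, -2, 2, 0, 0],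
    [2, 0, 2, -2, 0, 0, -2, 0, 0, 0, 2, 2, 0, -2, -2, -4, 2, -2, 0, 0, 0, 0, 2, 2],
    [0, 2, 0, 0, 2, 2, 0, 2, 2, 2, 0, 0, -2, 0, 0, 2, 0, 0, 2, 2, 2, 2, 0, 4]]

/-- Element 23. -/
def el23 : List (List ℤ) :=
  [[4, -2, -2, 0, 0, -2, 0, -2, -2, 0, 0, 0, -2, 0, -2, 0, 0, 0, 0, -2, 0, 0, 0, 4],
    [-2, 0, 0, -2, 2, 0, 2, 0, 0, -2, -2, 2, 0, -2, 0, -2, 2, 2, -2, 0, 2, -2, 2, 2],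
    [-2, 0, 0, -2, -2, 0, 2, 0, 0, 2, 2, 2, 0, 2, 0, 2, -2, 2, -2, 0, -2, -2, -2, 2],
    [0, -2, -2, 4, 0, -2, 0, 2, 2, 0, 0, 0, 2, 0, -2, 0, 0, 4, 0, 2, 0, 0, 0, 0],
    [0, 2, -2, 0, 4, 2, 0, 2, 2, 0, 0, 0, -2, 0, -2, 4, 0, 0, 0, -2, 0, 0, 0, 0],
    [-2, 0, 0, -2, 2, 0, -2, 0, 0, 2, -2, -2, 0, 2, 0, -2, 2, 2, 2, 0, -2, 2, -2, 2],
    [0, 2, 2, 0, 0, -2, 4, 2, -2, 0, 0, 0, -2, 0, -2, 0, 0, 0, 0, 2, 0, 4, 0, 0],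
    [-2, 0, 0, 2, 2, 0, 2, 0, 0, 2, 2, -2, 0, -2, 0, -2, -2, -2, 2, 0, 2, -2, -2, 2],
    [-2, 0, 0, 2, 2, 0, -2, 0, 0, -2, 2, 2, 0, 2, 0, -2, -2, -2, -2, 0, -2, 2, 2, 2],
    [0, -2, 2, 0, 0, 2, 0, 2, -2, 4, 0, 0, 2, 0, -2, 0, 0, 0, 0, -2, 0, 0, 4, 0],
    [0, -2, 2, 0, 0, -2, 0, 2, 2, 0, 4, 0, -2, 0, 2, 0, 4, 0, 0, -2, 0, 0, 0, 0],
    [0, 2, 2, 0, 0, -2, 0, -2, 2, 0, 0, 4, 2, 0, -2, 0, 0, 0, 4, -2, 0, 0, 0, 0],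
    [-2, 0, 0, 2, -2, 0, -2, 0, 0, 2, -2, 2, 0, -2, 0, 2, 2, -2, -2, 0, 2, 2, -2, 2],
    [0, -2, 2, 0, 0, 2, 0, -2, 2, 0, 0, 0, -2, 4, -2, 0, 0, 0, 0, 2, 4, 0, 0, 0],
    [-2, 0, 0, -2, -2, 0, -2, 0, 0, -2, 2, -2, 0, -2, 0, 2, -2, 2, 2, 0, 2, 2, 2, 2],
    [0, -2, 2, 0, 4, -2, 0, -2, -2, 0, 0, 0, 2, 0, 2, 4, 0, 0, 0, 2, 0, 0, 0, 0],
    [0, 2, -2, 0, 0, 2, 0, -2, -2, 0, 4, 0, 2, 0, -2, 0, 4, 0, 0, 2, 0, 0, 0, 0],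
    [0, 2, 2, 4, 0, 2, 0, -2, -2, 0, 0, 0, -2, 0, 2, 0, 0, 4, 0, -2, 0, 0, 0, 0],
    [0, -2, -2, 0, 0, 2, 0, 2, -2, 0, 0, 4, -2, 0, 2, 0, 0, 0, 4, 2, 0, 0, 0, 0],
    [-2, 0, 0, 2, -2, 0, 2, 0, 0, -2, -2, -2, 0, 2, 0, 2, 2, -2, 2, 0, -2, -2, 2, 2],
    [0, 2, -2, 0, 0, -2, 0, 2, -2, 0, 0, 0, 2, 4, 2, 0, 0, 0, 0, -2, 4, 0, 0, 0],
    [0, -2, -2, 0, 0, 2, 4, -2, 2, 0, 0, 0, 2, 0, 2, 0, 0, 0, 0, -2, 0, 4, 0, 0],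
    [0, 2, -2, 0, 0, -2, 0, -2, 2, 4, 0, 0, -2, 0, 2, 0, 0, 0, 0, 2, 0, 0, 4, 0],
    [4, 2, 2, 0, 0, 2, 0, 2, 2, 0, 0, 0, 2, 0, 2, 0, 0, 0, 0, 2, 0, 0, 0, 4]]

/-- The elements outside the permutation part. -/
def elems : List (List (List ℤ)) := [el0, el1, el2, el3, el4, el5, el6, el7, el8, el9, el10, el11, el12, el13, el14, el15, el16, el17, el18, el19, el20, el21, el22, el23]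

/-- Elements of M₂₃: three generators of a heptad stabiliser, their images under the swap, and an involution. -/
def perms : List (List ℕ) :=
  [[0, 15, 4, 16, 14, 3, 7, 8, 20, 9, 22, 6, 21, 19, 10, 18, 12, 17, 13, 1, 11, 5, 2, 23],
  [0, 1, 12, 21, 6, 3, 16, 10, 8, 14, 20, 2, 11, 17, 22, 13, 4, 15, 18, 19, 7, 5, 9, 23],
  [19, 17, 22, 3, 5, 6, 7, 2, 12, 20, 8, 10, 9, 0, 16, 18, 21, 1, 15, 13, 11, 14, 4, 23],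
  [0, 19, 14, 6, 4, 20, 5, 11, 3, 22, 9, 16, 21, 15, 10, 1, 12, 17, 13, 18, 8, 7, 2, 23],
  [0, 1, 2, 6, 3, 21, 4, 22, 12, 20, 9, 8, 11, 17, 7, 15, 5, 19, 18, 13, 10, 16, 14, 23],
  [15, 17, 7, 3, 21, 22, 4, 11, 16, 8, 10, 2, 12, 0, 5, 13, 9, 18, 1, 19, 20, 6, 14, 23],
  [13, 1, 9, 4, 21, 20, 16, 10, 22, 12, 2, 7, 6, 0, 8, 19, 11, 18, 15, 17, 3, 14, 5, 23],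
  [0, 1, 17, 3, 19, 14, 6, 9, 8, 7, 10, 20, 21, 13, 5, 22, 18, 2, 16, 4, 11, 12, 15, 23]]

/-- Words for the images and the factors in the three generators. -/
def permWords : List (List ℕ) :=
  [[0, 1, 0, 2, 2, 2, 0, 2, 2, 2],
  [1, 1, 2, 1, 1, 2, 0, 1, 2, 1],
  [2, 1, 2, 1, 0, 0, 0, 2, 0, 2],
  [1, 0, 0, 1, 1, 2]]

/-- Words for the coset representatives. -/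
def repWords : List (List ℕ) :=
  [[],
  [0],
  [0, 0],
  [0, 0, 0],
  [1, 0, 0],
  [1, 1, 0, 0]]

/-- The action of the generators on the cosets. -/
def cosetAct : List (List (ℕ × List ℕ)) := [
  [(0, [0]), (2, []), (3, []), (4, []), (5, [0, 1, 0, 1, 0, 0, 0, 0, 1, 0, 1, 0, 1, 1]), (1, [0, 0, 1, 0, 1, 0, 1, 1, 0, 1, 0, 0, 0, 0, 1]), (6, [1, 0, 0, 1, 0, 1, 0, 1, 0, 1, 1, 0])],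
  [(0, [1]), (1, [0, 0, 0, 1, 0, 1, 1, 0, 1, 0, 0, 0]), (2, [0, 1, 0, 1, 0, 1, 0, 0, 1, 0, 0, 0, 1]), (5, []), (4, [0, 0, 1, 0, 1, 0, 1, 1, 0, 0, 0, 1, 0]), (6, []), (3, [])],
  [(1, []), (5, [1, 1, 0, 0, 1, 1, 0, 0, 1, 1]), (6, [0, 0, 1, 1, 0, 1, 0, 0, 0, 0, 1, 0, 1, 0, 0, 1]), (4, [1, 0, 1, 0, 1, 0, 0, 1, 1]), (3, [1, 0, 1, 1, 0, 0, 1, 1, 0]), (0, [0, 0, 0, 0, 1, 0, 0, 1, 1, 0, 0, 0, 0, 1]), (2, [0, 1, 1, 0, 0, 1, 0, 0, 1, 0, 1])]]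

/-- Words for a Sylow 2-subgroup of the heptad stabiliser. -/
def sylWords : List (List ℕ) :=
  [[1, 0, 2, 0, 2, 0, 1, 1, 0, 1],
  [1, 1, 0, 0, 0, 1, 0, 2, 0, 0],
  [1, 0, 0, 2, 1, 0, 1, 0, 2],
  [1, 2, 0, 1, 0, 0, 0, 1, 1],
  [2, 0, 0, 1, 1, 2, 2, 0, 2, 2],
  [0, 0, 0, 0, 2, 0, 0, 1, 1],
  [2, 0, 2, 2, 0, 1, 0, 0, 1]]

/-- The eight images of the frame vector. -/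
def clique : List (List ℤ) :=
  [[0, 0, 0, 0, 0, 0, 0, 0, 0, 0, 0, 0, 0, 0, 0, 0, 0, 0, 0, 0, 0, 0, 0, 8],
  [-2, 2, 0, 0, 0, 0, 0, 0, 0, 0, 0, 0, 0, 2, 0, 2, 0, 2, 2, 2, 0, 0, 0, 6],
  [2, 2, 0, 0, 0, 0, 0, 0, 0, 0, 0, 0, 0, 2, 0, 2, 0, 2, 2, -2, 0, 0, 0, 6],
  [2, 2, 0, 0, 0, 0, 0, 0, 0, 0, 0, 0, 0, 2, 0, -2, 0, 2, 2, 2, 0, 0, 0, 6],
  [2, -2, 0, 0, 0, 0, 0, 0, 0, 0, 0, 0, 0, 2, 0, 2, 0, 2, 2, 2, 0, 0, 0, 6],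
  [2, 2, 0, 0, 0, 0, 0, 0, 0, 0, 0, 0, 0, -2, 0, 2, 0, 2, 2, 2, 0, 0, 0, 6],
  [2, 2, 0, 0, 0, 0, 0, 0, 0, 0, 0, 0, 0, 2, 0, 2, 0, 2, -2, 2, 0, 0, 0, 6],
  [2, 2, 0, 0, 0, 0, 0, 0, 0, 0, 0, 0, 0, 2, 0, 2, 0, -2, 2, 2, 0, 0, 0, 6]]

/-- Words reaching them. -/
def cliqueWords : List (List ℕ) :=
  [[],
  [0],
  [26, 0],
  [0, 26, 0],
  [24, 26, 0],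
  [26, 26, 0],
  [24, 0, 26, 0],
  [26, 24, 26, 0]]

/-- Relations (two). -/
def relsTwo : List (List ℕ × List ℕ) := [
  ([0, 0], []),
  ([0, 24, 0], [27]),
  ([0, 25, 0], [28]),
  ([0, 26, 0], [29, 0, 30]),
  ([0, 1], [1, 31])]

/-- Relations (three). -/
def relsThree : List (List ℕ × List ℕ) := [
  ([7, 7], []),
  ([10, 8], [8, 8, 10]),
  ([10, 9], [9, 10]),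
  ([8, 9], [9, 8]),
  ([2, 2, 2], []),
  ([3, 3, 3], []),
  ([4, 4, 4], []),
  ([5, 5, 5], []),
  ([6, 6, 6], []),
  ([8, 8, 8], []),
  ([9, 9, 9], []),
  ([7, 2], [2, 2, 7]),
  ([7, 3], [3, 3, 7]),
  ([7, 4], [4, 4, 7]),
  ([7, 5], [5, 5, 7]),
  ([7, 6], [6, 6, 7]),
  ([7, 8], [8, 7]),
  ([7, 9], [9, 7]),
  ([2, 3], [3, 2]),
  ([2, 4], [4, 2]),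
  ([2, 5], [5, 2]),
  ([2, 6], [6, 2]),
  ([3, 4], [4, 3]),
  ([3, 5], [5, 3]),
  ([3, 6], [6, 3]),
  ([4, 5], [5, 4]),
  ([4, 6], [6, 4]),
  ([5, 6], [6, 5]),
  ([11, 2], [3, 11]),
  ([12, 2], [4, 12]),
  ([13, 2], [5, 13]),
  ([14, 2], [6, 14]),
  ([15, 3], [4, 15]),
  ([16, 3], [5, 16]),
  ([17, 3], [6, 17]),
  ([18, 4], [5, 18]),
  ([19, 4], [6, 19]),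
  ([20, 5], [6, 20]),
  ([11, 3], [2, 11]),
  ([12, 4], [2, 12]),
  ([13, 5], [2, 13]),
  ([14, 6], [2, 14]),
  ([15, 4], [3, 15]),
  ([16, 5], [3, 16]),
  ([17, 6], [3, 17]),
  ([18, 5], [4, 18]),
  ([19, 6], [4, 19]),
  ([20, 6], [5, 20]),
  ([8, 2], [2, 4, 6, 6, 8]),
  ([8, 3], [6, 6, 8]),
  ([8, 4], [2, 2, 3, 3, 4, 4, 5, 5, 6, 8]),
  ([8, 5], [2, 2, 3, 6, 8]),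
  ([8, 6], [3, 6, 6, 8]),
  ([9, 2], [3, 3, 4, 4, 5, 5, 9]),
  ([9, 3], [2, 3, 4, 5, 6, 6, 9]),
  ([9, 4], [3, 3, 4, 4, 6, 9]),
  ([9, 5], [2, 2, 9]),
  ([9, 6], [2, 3, 5, 6, 6, 9])]

/-- Relations (five). -/
def relsFive : List (List ℕ × List ℕ) := [
  ([21, 21, 21, 21, 21], []),
  ([22, 22, 22, 22, 22], []),
  ([23, 21], [21, 21, 21, 21, 23]),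
  ([23, 22], [22, 22, 22, 22, 23])]

end Cfsg.Agent.CoMult35
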