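import Cfsg.Agent.CoMult35.CheckDefs

/-!
# The tables 0–7 are tables of elements of Co₃
-/

set_option autoImplicit false

namespace Cfsg.Agent.CoMult35

theorem el0_check : checkElem el0 = true := by decide +kernel

theorem el1_check : checkElem el1 = true := by decide +kernel

theorem el2_check : checkElem el2 = true := by decide +kernel

theorem el3_check : checkElem el3 = true := by decide +kernel

theorem el4_check : checkElem el4 = true := by decide +kernel

theorem el5_check : checkElem el5 = true := by decide +kernel

theorem el6_check : checkElem el6 = true := by decide +kernel

theorem el7_check : checkElem el7 = true := by decide +kernel

end Cfsg.Agent.CoMult35
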