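import Cfsg.Agent.CoMult35.Base

/-!
# Relations between the chosen elements of Co₃
-/

set_option autoImplicit false
set_option maxRecDepth 100000

namespace Cfsg.Agent.CoMult35

open Cfsg Cfsg.Agent.SporStruct CoMatrix
open Cfsg.Agent.Golay (Tab pt idx idx_pt idTab tab_one)
open Cfsg.Agent.SporStruct.OuterCo3 (emb emb_injective)

theorem word_nil {H : Type*} [Monoid H] (L : List H) : word L [] = 1 := rfl

theorem word_cons {H : Type*} [Monoid H] (L : List H) (i : ℕ) (w : List ℕ) :
    word L (i :: w) = L.getD i 1 * word L w := List.prod_cons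

theorem word_mem_of {H : Type*} [Monoid H] {S : Submonoid H} (L : List H) :
    ∀ w : List ℕ, (∀ i ∈ w, L.getD i 1 ∈ S) → word L w ∈ S
  | [], _ => S.one_mem
  | i :: w, h => by
    rw [word_cons]
    exact S.mul_mem (h i List.mem_cons_self)
      (word_mem_of L w fun k hk => h k (List.mem_cons_of_mem _ hk))

namespace Elems

variable (E : Elems)

/-- The element with a given index. -/
noncomputable abbrev el (i : ℕ) : ↥Spor.Co3 := E.L.getD i 1

/-- The permutation with a given index. -/
noncomputable abbrev pm (i : ℕ) : Spor.M23 := E.F.getD i 1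

theorem rel {rels : List (List ℕ × List ℕ)} (h : relOK rels = true) {u v : List ℕ}
    (huv : (u, v) ∈ rels) : word E.L u = word E.L v := by
  simp only [relOK, List.all_eq_true, beq_iff_eq] at h
  exact OuterCommon.rel_facts emb_injective E.hL (h _ huv)

theorem vec (p : GolayPt) (w : List ℕ) :
    vecL ((emb (word E.L w) • Agent.Leech.frame p : leechLattice) : GolayPt → ℤ) =
      evalPV allTabs w (unitL (idx p)) :=
  vecL_word E.hL p w

theorem word_ne_one {w : List ℕ} (h : evalP allTabs w ≠ idMat) : word E.L w ≠ 1 := fun e => h (by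
  rw [← rows_word_packed E.hL, e, map_one, rows_one])

theorem tab_take (n i : ℕ) : Tab ((E.F.take n).getD i 1).1 ((perms.take n).getD i idTab) := by
  rcases lt_or_ge i n with h | h
  · have := E.hF i
    simp only [List.getD_eq_getElem?_getD, List.getElem?_take, if_pos h] at this ⊢
    exact this
  · simp only [List.getD_eq_getElem?_getD, List.getElem?_take, if_neg (not_lt.2 h),
      Option.getD_none]
    exact tab_one

/-- The subgroup generated by the first permutations. -/
noncomputable def gen (n : ℕ) : Subgroup Spor.M23 := Subgroup.closure {y | ∃ i < n, E.pm i = y}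

theorem pm_mem {n i : ℕ} (h : i < n) : E.pm i ∈ E.gen n :=
  Subgroup.subset_closure ⟨i, h, rfl⟩

theorem word_mem_gen (n : ℕ) (w : List ℕ) : word (E.F.take n) w ∈ E.gen n := by
  refine word_mem_of (S := (E.gen n).toSubmonoid) _ w fun i _ => ?_
  rcases lt_or_ge i n with h | h
  · rw [List.getD_eq_getElem?_getD, List.getElem?_take, if_pos h, ← List.getD_eq_getElem?_getD]
    exact E.pm_mem h
  · rw [List.getD_eq_getElem?_getD, List.getElem?_take, if_neg (not_lt.2 h), Option.getD_none]
    exact (E.gen n).one_mem

theorem gen_mono {m n : ℕ} (h : m ≤ n) : E.gen m ≤ E.gen n :=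
  (Subgroup.closure_le _).2 fun _ ⟨_, hi, e⟩ => e ▸ E.pm_mem (hi.trans_le h)

end Elems

end Cfsg.Agent.CoMult35
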