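import Cfsg.Agent.J2Mult70.Central
import Cfsg.Agent.Lib.Schur.Transfer
import Mathlib.GroupTheory.OrderOfElement
import Mathlib.Data.ZMod.Basic

/-!
# Splitting central extensions over subgroups of rank two and over inverted abelian subgroups

`split_swap`: if a subgroup `K` lifts and an involution `x` outside it, which lifts to an involution,
produces `K ∪ K x K` as a subgroup, then the extension splits over that subgroup, provided the kernel
has exponent two.

`split_inverted`: an elementary abelian 3-subgroup inverted by `c` together with an elementary abelian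
3-subgroup centralised by `c` has commuting lifts modulo a complement of the kernel.
-/

set_option autoImplicit false

namespace Cfsg.Agent.CoMult35

open Subgroup
open scoped commutatorElement

universe u v w

variable {E : Type u} [Group E] {G : Type v} [Group G] (σ : E →* G) (hc : σ.ker ≤ Subgroup.center E)

include hc

theorem central_of' {k : E} (h : σ k = 1) (y : E) : k * y = y * k :=
  (Subgroup.mem_center_iff.mp (hc h) y).symm

/-- The commutator depends only on the images. -/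
theorem commutator_congr {x y x' y' : E} (hx : σ x = σ x') (hy : σ y = σ y') :
    ⁅x, y⁆ = ⁅x', y'⁆ := by
  obtain ⟨i, hi, rfl⟩ := J2Mult70.exists_eq_mul σ hc hx
  obtain ⟨j, hj, rfl⟩ := J2Mult70.exists_eq_mul σ hc hy
  exact Cfsg.Agent.Schur.commutatorElement_mul_central (hc hi) (hc hj) x' y'

section two

variable (h2 : ∀ k, σ k = 1 → k * k = 1)
include h2

theorem eq_of_odd_pow {y z : E} {n : ℕ} (hn : Odd n) (hy : y ^ n = 1) (hz : z ^ n = 1)
    (h : σ y = σ z) : y = z := by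
  obtain ⟨k, hk, rfl⟩ := J2Mult70.exists_eq_mul σ hc h
  obtain ⟨m, rfl⟩ := hn
  rw [J2Mult70.central_pow_mul σ hc hk, hz, one_mul, pow_succ, pow_mul, sq, h2 k hk, one_pow,
    one_mul] at hy
  rw [hy, mul_one]

/-- The extension splits over `K ∪ K x K`. -/
theorem split_swap {J : Type w} [Group J] (s : J →* E) (j : J →* G) (hsj : ∀ y, σ (s y) = j y)
    (hj : Function.Injective j) (K : Subgroup J) (T : Set J) (hTK : T ⊆ K) (m : J)
    (hK : ∀ k ∈ K, k ∈ Subgroup.closure T ∨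
      ∃ a ∈ Subgroup.closure T, ∃ b ∈ Subgroup.closure T, k = a * m * b)
    (x g : G) (m0 : J) (hm0 : m0 * m0 = 1) (hg : x * g = g * j m0) (hx2 : x * x = 1)
    (hxJ : ∀ y, j y ≠ x)
    (hT : ∀ t ∈ T, (∃ n, Odd n ∧ t ^ n = 1) ∧ ∃ t' ∈ K, x * j t * x = j t')
    (k1 k2 : J) (hk1 : k1 ∈ K) (hk2 : k2 ∈ K) (hm : x * j m * x = j k1 * x * j k2)
    (hsurj : Function.Surjective σ) :
    ∃ P : Subgroup G, (∀ k ∈ K, j k ∈ P) ∧ x ∈ P ∧ σ.ker ⊓ ⁅P.comap σ, P.comap σ⁆ = ⊥ := by
  obtain ⟨gh, rfl⟩ := hsurj g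
  set x0 : E := gh * s m0 * gh⁻¹ with hx0
  have hx0s : σ x0 = x := by
    rw [hx0, map_mul, map_mul, map_inv, hsj, ← hg, mul_inv_cancel_right]
  have hx00 : x0 * x0 = 1 := by
    rw [hx0, show gh * s m0 * gh⁻¹ * (gh * s m0 * gh⁻¹) = gh * (s m0 * s m0) * gh⁻¹ by group,
      ← map_mul, hm0, map_one, mul_one, mul_inv_cancel]
  obtain ⟨κ, hκ, hκe⟩ : ∃ κ, σ κ = 1 ∧ x0 * s m * x0 = s k1 * x0 * s k2 * κ :=
    J2Mult70.exists_eq_mul σ hc (by simp only [map_mul, hsj, hx0s]; exact hm)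
  set xh : E := x0 * κ with hxh
  have hxs : σ xh = x := by rw [hxh, map_mul, hκ, mul_one, hx0s]
  have hxx : xh * xh = 1 := by
    rw [hxh, mul_assoc, ← mul_assoc κ, central_of' σ hc hκ x0, mul_assoc x0, h2 κ hκ, mul_one, hx00]
  have hxm : xh * s m * xh = s k1 * xh * s k2 := by
    have cκ := central_of' σ hc hκ
    calc xh * s m * xh = x0 * (κ * s m) * x0 * κ := by rw [hxh]; group
      _ = x0 * s m * (κ * x0) * κ := by rw [cκ (s m)]; group
      _ = x0 * s m * x0 * (κ * κ) := by rw [cκ x0]; group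
      _ = s k1 * x0 * (s k2 * κ) := by rw [h2 κ hκ, mul_one, hκe]; group
      _ = s k1 * xh * s k2 := by rw [← cκ (s k2), hxh]; group
  clear hxh
  clear_value xh
  -- the conjugates of the lift of `K` in the double coset
  have hT' : ∀ k ∈ Subgroup.closure T, ∃ k' ∈ K, xh * s k * xh = s k' := by
    intro k hk
    induction hk using Subgroup.closure_induction with
    | mem t ht =>
      obtain ⟨⟨n, hn, htn⟩, t', ht', hxt⟩ := hT t ht
      refine ⟨t', ht', eq_of_odd_pow σ hc h2 hn ?_ ?_ (by simp only [map_mul, hsj, hxs]; exact hxt)⟩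
      · have hi : xh⁻¹ = xh := inv_eq_of_mul_eq_one_right hxx
        have h3 : (xh * s t * xh⁻¹) ^ n = 1 := by
          rw [conj_pow, ← map_pow, htn, map_one, mul_one, mul_inv_cancel]
        rwa [hi] at h3
      · have hxi : x⁻¹ = x := inv_eq_of_mul_eq_one_right hx2
        have h3 : j (t' ^ n) = j 1 := by
          rw [map_pow, ← hxt, map_one]
          nth_rewrite 2 [← hxi]
          rw [conj_pow, ← map_pow, htn, map_one, mul_one, mul_inv_cancel]
        rw [← map_pow, hj h3, map_one]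
    | one => exact ⟨1, K.one_mem, by simp [hxx]⟩
    | mul a b _ _ iha ihb =>
      obtain ⟨a', ha', ea⟩ := iha
      obtain ⟨b', hb', eb⟩ := ihb
      refine ⟨a' * b', K.mul_mem ha' hb', ?_⟩
      rw [map_mul, map_mul, ← ea, ← eb]
      calc xh * (s a * s b) * xh = xh * s a * 1 * s b * xh := by group
        _ = xh * s a * (xh * xh) * s b * xh := by rw [hxx]
        _ = _ := by group
    | inv a _ ih =>
      obtain ⟨a', ha', ea⟩ := ih
      refine ⟨a'⁻¹, K.inv_mem ha', ?_⟩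
      have hi : xh⁻¹ = xh := inv_eq_of_mul_eq_one_right hxx
      rw [map_inv, map_inv, ← ea, mul_inv_rev, mul_inv_rev, hi, ← mul_assoc]
  have hTK' : Subgroup.closure T ≤ K := (Subgroup.closure_le _).2 hTK
  -- the subgroup
  let InL : E → Prop := fun y => (∃ k ∈ K, y = s k) ∨ ∃ a ∈ K, ∃ b ∈ K, y = s a * xh * s b
  have hsx : ∀ k ∈ K, InL (xh * s k * xh) := by
    intro k hk
    rcases hK k hk with h | ⟨a, ha, b, hb, rfl⟩
    · obtain ⟨k', hk', e⟩ := hT' k h
      exact Or.inl ⟨k', hk', e⟩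
    · obtain ⟨a', ha', ea⟩ := hT' a ha
      obtain ⟨b', hb', eb⟩ := hT' b hb
      refine Or.inr ⟨a' * k1, K.mul_mem ha' hk1, k2 * b', K.mul_mem hk2 hb', ?_⟩
      rw [map_mul, map_mul, map_mul, map_mul]
      calc xh * (s a * s m * s b) * xh = xh * s a * 1 * s m * 1 * s b * xh := by group
        _ = (xh * s a * xh) * (xh * s m * xh) * (xh * s b * xh) := by
          rw [← hxx]; group
        _ = _ := by rw [ea, hxm, eb]; group
  let L : Subgroup E :=
    { carrier := {y | InL y}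
      one_mem' := Or.inl ⟨1, K.one_mem, (map_one s).symm⟩
      mul_mem' := by
        rintro y z (⟨a, ha, rfl⟩ | ⟨a, ha, b, hb, rfl⟩) (⟨c, hc', rfl⟩ | ⟨c, hc', d, hd, rfl⟩)
        · exact Or.inl ⟨a * c, K.mul_mem ha hc', (map_mul s a c).symm⟩
        · exact Or.inr ⟨a * c, K.mul_mem ha hc', d, hd, by rw [map_mul]; group⟩
        · exact Or.inr ⟨a, ha, b * c, K.mul_mem hb hc', by rw [map_mul]; group⟩
        · rcases hsx (b * c) (K.mul_mem hb hc') with ⟨k, hk, e⟩ | ⟨p, hp, q, hq, e⟩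
          · refine Or.inl ⟨a * k * d, K.mul_mem (K.mul_mem ha hk) hd, ?_⟩
            rw [map_mul, map_mul, ← e, map_mul]; group
          · refine Or.inr ⟨a * p, K.mul_mem ha hp, q * d, K.mul_mem hq hd, ?_⟩
            rw [map_mul, map_mul,
              show s a * xh * s b * (s c * xh * s d) = s a * (xh * (s b * s c) * xh) * s d by group,
              ← map_mul, e]
            group
      inv_mem' := by
        rintro y (⟨a, ha, rfl⟩ | ⟨a, ha, b, hb, rfl⟩)
        · exact Or.inl ⟨a⁻¹, K.inv_mem ha, (map_inv s a).symm⟩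
        · refine Or.inr ⟨b⁻¹, K.inv_mem hb, a⁻¹, K.inv_mem ha, ?_⟩
          rw [mul_inv_rev, mul_inv_rev, inv_eq_of_mul_eq_one_right hxx, map_inv, map_inv, mul_assoc] }
  have hLk : ∀ y ∈ L, σ y = 1 → y = 1 := by
    rintro y (⟨k, hk, rfl⟩ | ⟨a, ha, b, hb, rfl⟩) h
    · rw [hsj, ← map_one j] at h
      rw [hj h, map_one]
    · exfalso
      rw [map_mul, map_mul, hsj, hsj, hxs] at h
      refine hxJ (a⁻¹ * b⁻¹) ?_
      rw [map_mul, map_inv, map_inv]
      calc (j a)⁻¹ * (j b)⁻¹ = (j a)⁻¹ * (j a * x * j b) * (j b)⁻¹ := by rw [h, mul_one]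
        _ = x := by group
  refine ⟨L.map σ, fun k hk => ⟨s k, Or.inl ⟨k, hk, rfl⟩, hsj k⟩,
    ⟨xh, Or.inr ⟨1, K.one_mem, 1, K.one_mem, by simp⟩, hxs⟩, ?_⟩
  have hle : ⁅(L.map σ).comap σ, (L.map σ).comap σ⁆ ≤ L := by
    rw [commutator_le]
    intro y hy z hz
    obtain ⟨y', hy', ey⟩ := hy
    obtain ⟨z', hz', ez⟩ := hz
    rw [commutator_congr σ hc ey.symm ez.symm, commutatorElement_def]
    exact L.mul_mem (L.mul_mem (L.mul_mem hy' hz') (L.inv_mem hy')) (L.inv_mem hz')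
  rw [eq_bot_iff]
  rintro y ⟨hy1, hy2⟩
  exact Subgroup.mem_bot.2 (hLk y (hle hy2) hy1)

end two

section three

/-- A central commutator of an element of order three modulo the kernel has order dividing three. -/
theorem commutator_cube {x y : E} (hxy : σ ⁅x, y⁆ = 1) (hy : σ y ^ 3 = 1) : ⁅x, y⁆ ^ 3 = 1 := by
  set t := ⁅x, y⁆ with ht
  have h : x * y * x⁻¹ = t * y := by rw [ht, commutatorElement_def]; group
  have hty : Commute t y := central_of' σ hc hxy y
  have h3 := conj_pow (a := x) (b := y) (i := 3)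
  rw [h, hty.mul_pow] at h3
  rw [← central_of' σ hc (show σ (y ^ 3) = 1 by rw [map_pow]; exact hy) x, mul_inv_cancel_right]
    at h3
  exact mul_eq_right.1 h3

/-- Lifts commute when some element exchanges or inverts. -/
theorem commute_of_swap {x y h x' y' : E} (hy : σ y ^ 3 = 1) (hxy : Commute (σ x) (σ y))
    (e1 : σ x' = σ h * σ x * (σ h)⁻¹) (e2 : σ y' = σ h * σ y * (σ h)⁻¹)
    (hinv : ⁅x', y'⁆ = ⁅x, y⁆⁻¹) : ⁅x, y⁆ = 1 := by
  have hk : σ ⁅x, y⁆ = 1 := by
    rw [map_commutatorElement, commutatorElement_eq_one_iff_mul_comm]; exact hxy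
  have h3 := commutator_cube σ hc hk hy
  have hfix : ⁅x', y'⁆ = ⁅x, y⁆ := by
    rw [commutator_congr σ hc (x' := h * x * h⁻¹) (y' := h * y * h⁻¹) (by simp [e1]) (by simp [e2]),
      show ⁅h * x * h⁻¹, h * y * h⁻¹⁆ = h * ⁅x, y⁆ * h⁻¹ by simp only [commutatorElement_def]; group,
      ← central_of' σ hc hk h, mul_inv_cancel_right]
  rw [hfix, eq_inv_iff_mul_eq_one] at hinv
  rwa [pow_succ, sq, hinv, one_mul] at h3

/-- A property of lifts, closed under products, passes from generators to the generated group. -/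
theorem lifts_closure [Finite G] (hσ : Function.Surjective σ) {S : Set G} {P : E → Prop}
    (hmem : ∀ x, σ x ∈ S → P x) (hker : ∀ x, σ x = 1 → P x)
    (hmul : ∀ x y, σ x ∈ Subgroup.closure S → σ y ∈ Subgroup.closure S → P x → P y → P (x * y))
    {x : E} (hx : σ x ∈ Subgroup.closure S) : P x := by
  have hm : σ x ∈ Submonoid.closure S := by
    rwa [← Subgroup.closure_toSubmonoid_of_finite, Subgroup.mem_toSubmonoid]
  suffices ∀ g, g ∈ Submonoid.closure S → ∀ y, σ y = g → P y from this _ hm x rfl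
  intro g hg
  induction hg using Submonoid.closure_induction with
  | mem a ha => exact fun y e => hmem y (e ▸ ha)
  | one => exact hker
  | mul a b ha hb iha ihb =>
    intro y e
    obtain ⟨u, rfl⟩ := hσ a
    have e' : σ (u⁻¹ * y) = b := by rw [map_mul, map_inv, e, inv_mul_cancel_left]
    have hsub : ∀ g ∈ Submonoid.closure S, g ∈ Subgroup.closure S := fun g hg =>
      (Submonoid.closure_le (S := (Subgroup.closure S).toSubmonoid)).2 Subgroup.subset_closure hg
    have := hmul u (u⁻¹ * y) (hsub _ ha) (e' ▸ hsub _ hb) (iha u rfl) (ihb _ e')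
    rwa [mul_inv_cancel_left] at this

/-- The kernel meets the derived subgroup of the preimage of `⟨SA, SR⟩` trivially. -/
theorem split_inverted [Finite G] (hσ : Function.Surjective σ) (SA SR : Set G) (c : G)
    (hA3 : ∀ a ∈ SA, a ^ 3 = 1) (hR3 : ∀ r ∈ SR, r ^ 3 = 1)
    (hAA : ∀ a ∈ SA, ∀ b ∈ SA, Commute a b ∧ (a = b ∨ ∃ h, h * a * h⁻¹ = b ∧ h * b * h⁻¹ = a))
    (hRR : ∀ r ∈ SR, ∀ s ∈ SR, Commute r s ∧ (r = s ∨
      (∃ q, q * r * q⁻¹ = r⁻¹ ∧ q * s * q⁻¹ = s) ∨ ∃ q, q * r * q⁻¹ = r ∧ q * s * q⁻¹ = s⁻¹))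
    (hca : ∀ a ∈ SA, c * a * c⁻¹ = a⁻¹) (hcr : ∀ r ∈ SR, c * r * c⁻¹ = r)
    (hnorm : ∀ r ∈ SR, ∀ a ∈ SA, r * a * r⁻¹ ∈ Subgroup.closure SA) :
    σ.ker ⊓ ⁅(Subgroup.closure (SA ∪ SR)).comap σ, (Subgroup.closure (SA ∪ SR)).comap σ⁆ = ⊥ := by
  obtain ⟨ch, rfl⟩ := hσ c
  set A := Subgroup.closure SA with hA
  -- lifts of `A` commute
  have genA : ∀ x y : E, σ x ∈ SA → σ y ∈ SA → Commute x y := by
    intro x y hx hy
    obtain ⟨hcom, h⟩ := hAA _ hx _ hy
    refine commutatorElement_eq_one_iff_mul_comm.1 ?_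
    rcases h with h | ⟨h, h1, h2⟩
    · rw [commutator_congr σ hc h (rfl : σ y = σ y), commutatorElement_self]
    · obtain ⟨hh, rfl⟩ := hσ h
      exact commute_of_swap σ hc (x' := y) (y' := x) (h := hh) (hA3 _ hy) hcom h1.symm h2.symm
        (commutatorElement_inv x y).symm
  have commA : ∀ x y : E, σ x ∈ A → σ y ∈ A → Commute x y := by
    intro x y hx hy
    refine lifts_closure σ hc hσ (P := fun y => Commute x y) (fun y hy' => ?_)
      (fun y hy' => (central_of' σ hc hy' x).symm) (fun _ _ _ _ => Commute.mul_right) hy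
    exact lifts_closure σ hc hσ (P := fun x => Commute x y) (fun x hx' => genA x y hx' hy')
      (fun x hx' => central_of' σ hc hx' y) (fun _ _ _ _ => Commute.mul_left) hx
  have expA : ∀ x : E, σ x ∈ A → σ x ^ 3 = 1 := fun x hx =>
    lifts_closure σ hc hσ (P := fun x => σ x ^ 3 = 1) (fun x hx' => hA3 _ hx')
      (fun x e => by rw [e, one_pow])
      (fun u v hu hv eu ev => by
        rw [map_mul, ((commA u v hu hv).map σ).mul_pow, eu, ev, one_mul]) hx
  have invA : ∀ x : E, σ x ∈ A → σ ch * σ x * (σ ch)⁻¹ = (σ x)⁻¹ := fun x hx =>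
    lifts_closure σ hc hσ (P := fun x => σ ch * σ x * (σ ch)⁻¹ = (σ x)⁻¹) (fun x hx' => hca _ hx')
      (fun x e => by rw [e]; group)
      (fun u v hu hv eu ev => by
        rw [map_mul, mul_inv_rev, ← ((commA u v hu hv).map σ).inv_inv.eq, ← eu, ← ev]; group) hx
  have hstar : ∀ x, σ x ∈ A → σ ⁅ch, x⁆ = σ x := by
    intro x hx
    rw [map_commutatorElement, commutatorElement_def, invA x hx]
    have h3 := expA x hx
    rw [pow_succ, sq] at h3
    calc (σ x)⁻¹ * (σ x)⁻¹ = (σ x)⁻¹ * (σ x)⁻¹ * (σ x * σ x * σ x) := by rw [h3, mul_one]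
      _ = σ x := by group
  let D : Subgroup E :=
    { carrier := {y | ∃ x, σ x ∈ A ∧ ⁅ch, x⁆ = y}
      one_mem' := ⟨1, by rw [map_one]; exact A.one_mem, commutatorElement_one_right ch⟩
      mul_mem' := by
        rintro _ _ ⟨x, hx, rfl⟩ ⟨y, hy, rfl⟩
        refine ⟨x * y, by rw [map_mul]; exact A.mul_mem hx hy, ?_⟩
        have hcy := commA x ⁅ch, y⁆ hx (by rw [hstar y hy]; exact hy)
        calc ⁅ch, x * y⁆ = ⁅ch, x⁆ * (x * ⁅ch, y⁆ * x⁻¹) := by
              simp only [commutatorElement_def]; group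
          _ = _ := by rw [hcy.eq, mul_inv_cancel_right]
      inv_mem' := by
        rintro _ ⟨x, hx, rfl⟩
        refine ⟨x⁻¹, by rw [map_inv]; exact A.inv_mem hx, ?_⟩
        have hcy := (commA x ⁅ch, x⁆ hx (by rw [hstar x hx]; exact hx)).inv_left.inv_right
        calc ⁅ch, x⁻¹⁆ = x⁻¹ * ⁅ch, x⁆⁻¹ * x := by simp only [commutatorElement_def]; group
          _ = _ := by rw [hcy.eq, inv_mul_cancel_right] }
  have hDA : ∀ d ∈ D, σ d ∈ A := by
    rintro _ ⟨x, hx, rfl⟩
    rw [hstar x hx]; exact hx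
  have hRA : ∀ (y : E) (x : E), σ y ∈ SR → σ x ∈ A → σ (y * x * y⁻¹) ∈ A := by
    intro y x hy hx
    refine lifts_closure σ hc hσ (P := fun x => σ (y * x * y⁻¹) ∈ A) (fun x hx' => ?_)
      (fun x e => ?_) (fun u v _ _ eu ev => ?_) hx
    · rw [map_mul, map_mul, map_inv]; exact hnorm _ hy _ hx'
    · rw [map_mul, map_mul, map_inv, e, mul_one, mul_inv_cancel]; exact A.one_mem
    · rw [show y * (u * v) * y⁻¹ = y * u * y⁻¹ * (y * v * y⁻¹) by group, map_mul]
      exact A.mul_mem eu ev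
  have hnD : ∀ y, σ y ∈ Subgroup.closure (SA ∪ SR) → ∀ d ∈ D, y * d * y⁻¹ ∈ D := by
    intro y hy
    refine lifts_closure σ hc hσ (P := fun y => ∀ d ∈ D, y * d * y⁻¹ ∈ D) (fun y hy' d hd => ?_)
      (fun y e d hd => ?_) (fun u v _ _ eu ev d hd => ?_) hy
    · rcases hy' with hy' | hy'
      · rw [(commA y d (Subgroup.subset_closure hy') (hDA d hd)).eq, mul_inv_cancel_right]; exact hd
      · obtain ⟨x, hx, rfl⟩ := hd
        refine ⟨y * x * y⁻¹, hRA y x hy' hx, ?_⟩
        rw [show y * ⁅ch, x⁆ * y⁻¹ = ⁅y * ch * y⁻¹, y * x * y⁻¹⁆ by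
          simp only [commutatorElement_def]; group]
        refine commutator_congr σ hc ?_ rfl
        rw [map_mul, map_mul, map_inv]
        have := hcr _ hy'
        calc σ ch = (σ ch * σ y * (σ ch)⁻¹) * σ ch * (σ y)⁻¹ := by group
          _ = σ y * σ ch * (σ y)⁻¹ := by rw [this]
    · rw [central_of' σ hc e d, mul_inv_cancel_right]; exact hd
    · rw [show u * v * d * (u * v)⁻¹ = u * (v * d * v⁻¹) * u⁻¹ by group]
      exact eu _ (ev d hd)
  have hAR : ∀ x y : E, σ x ∈ SA → σ y ∈ SR → ⁅x, y⁆ ∈ D := by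
    intro x y hx hy
    have hxA : σ x ∈ A := Subgroup.subset_closure hx
    have hd : ⁅ch, x⁆ ∈ D := ⟨x, hxA, rfl⟩
    rw [commutator_congr σ hc (hstar x hxA).symm (rfl : σ y = σ y),
      show ⁅⁅ch, x⁆, y⁆ = ⁅ch, x⁆ * (y * ⁅ch, x⁆ * y⁻¹)⁻¹ by
        simp only [commutatorElement_def]; group]
    exact D.mul_mem hd (D.inv_mem (hnD y (Subgroup.subset_closure (Or.inr hy)) _ hd))
  have hRR' : ∀ x y : E, σ x ∈ SR → σ y ∈ SR → ⁅x, y⁆ = 1 := by
    intro x y hx hy
    obtain ⟨hcom, h⟩ := hRR _ hx _ hy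
    have hk : σ ⁅x, y⁆ = 1 := by
      rw [map_commutatorElement, commutatorElement_eq_one_iff_mul_comm]; exact hcom
    rcases h with h | ⟨q, h1, h2⟩ | ⟨q, h1, h2⟩
    · rw [commutator_congr σ hc h (rfl : σ y = σ y), commutatorElement_self]
    · obtain ⟨hh, rfl⟩ := hσ q
      refine commute_of_swap σ hc (x' := x⁻¹) (y' := y) (h := hh) (hR3 _ hy) hcom
        (by rw [map_inv, h1]) h2.symm ?_
      calc ⁅x⁻¹, y⁆ = x⁻¹ * ⁅x, y⁆⁻¹ * x := by simp only [commutatorElement_def]; group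
        _ = _ := by
          rw [mul_assoc, central_of' σ hc (by rw [map_inv, hk, inv_one]) x, inv_mul_cancel_left]
    · obtain ⟨hh, rfl⟩ := hσ q
      refine commute_of_swap σ hc (x' := x) (y' := y⁻¹) (h := hh) (hR3 _ hy) hcom h1.symm
        (by rw [map_inv, h2]) ?_
      calc ⁅x, y⁻¹⁆ = y⁻¹ * ⁅x, y⁆⁻¹ * y := by simp only [commutatorElement_def]; group
        _ = _ := by
          rw [mul_assoc, central_of' σ hc (by rw [map_inv, hk, inv_one]) y, inv_mul_cancel_left]
  have hgen : ∀ x y : E, σ x ∈ SA ∪ SR → σ y ∈ SA ∪ SR → ⁅x, y⁆ ∈ D := by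
    rintro x y (hx | hx) (hy | hy)
    · rw [commutatorElement_eq_one_iff_mul_comm.2 (genA x y hx hy)]; exact D.one_mem
    · exact hAR x y hx hy
    · rw [← commutatorElement_inv]; exact D.inv_mem (hAR y x hy hx)
    · rw [hRR' x y hx hy]; exact D.one_mem
  have hle : ⁅(Subgroup.closure (SA ∪ SR)).comap σ, (Subgroup.closure (SA ∪ SR)).comap σ⁆ ≤ D := by
    rw [commutator_le]
    intro x hx y hy
    refine lifts_closure σ hc hσ (P := fun x => ⁅x, y⁆ ∈ D) (fun x hx' => ?_)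
      (fun x e => ?_) (fun u v hu hv eu ev => ?_) hx
    · refine lifts_closure σ hc hσ (P := fun y => ⁅x, y⁆ ∈ D) (fun y hy' => hgen x y hx' hy')
        (fun y e => ?_) (fun u v hu _ eu ev => ?_) hy
      · rw [commutatorElement_eq_one_iff_mul_comm.2 (central_of' σ hc e x).symm]; exact D.one_mem
      · rw [show ⁅x, u * v⁆ = ⁅x, u⁆ * (u * ⁅x, v⁆ * u⁻¹) by
          simp only [commutatorElement_def]; group]
        exact D.mul_mem eu (hnD u hu _ ev)
    · rw [commutatorElement_eq_one_iff_mul_comm.2 (central_of' σ hc e y)]; exact D.one_mem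
    · rw [show ⁅u * v, y⁆ = u * ⁅v, y⁆ * u⁻¹ * ⁅u, y⁆ by simp only [commutatorElement_def]; group]
      exact D.mul_mem (hnD u hu _ ev) eu
  rw [eq_bot_iff]
  rintro z ⟨hz1, hz2⟩
  obtain ⟨x, hx, rfl⟩ := hle hz2
  rw [Subgroup.mem_bot]
  have hz1' : σ ⁅ch, x⁆ = 1 := hz1
  rw [hstar x hx] at hz1'
  exact commutatorElement_eq_one_iff_mul_comm.2 (central_of' σ hc hz1' ch).symm

end three

end Cfsg.Agent.CoMult35
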