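import Cfsg.Agent.CoMult35.Facts
import Cfsg.Agent.CoMult35.Lift
import Cfsg.Agent.PresMult70.Sylow

/-!
# Local criteria for Co₃ at the primes 3 and 5
-/

set_option autoImplicit false
set_option maxRecDepth 100000

namespace Cfsg.Agent.CoMult35

open Cfsg Cfsg.Agent.Leech Cfsg.Agent.SporStruct CoMatrix
open Cfsg.Agent.Golay (pt idx idx_pt)
open Cfsg.Agent.SporStruct.OuterCo3 (emb emb_injective card_Co3)
open scoped commutatorElement

theorem closure_commute {G : Type*} [Group G] {S : Set G}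
    (hc : ∀ a ∈ S, ∀ b ∈ S, Commute a b) :
    ∀ x ∈ Subgroup.closure S, ∀ y ∈ Subgroup.closure S, Commute x y := by
  have h1 : ∀ y ∈ Subgroup.closure S, ∀ a ∈ S, Commute a y := by
    intro y hy
    induction hy using Subgroup.closure_induction with
    | mem b hb => exact fun a ha => hc a ha b hb
    | one => exact fun a _ => Commute.one_right a
    | mul u v _ _ iu iv => exact fun a ha => (iu a ha).mul_right (iv a ha)
    | inv u _ iu => exact fun a ha => (iu a ha).inv_right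
  intro x hx y hy
  induction hx using Subgroup.closure_induction with
  | mem a ha => exact h1 y hy a ha
  | one => exact Commute.one_left y
  | mul u v _ _ iu iv => exact iu.mul_left iv
  | inv u _ iu => exact iu.inv_left

theorem closure_pow_three {G : Type*} [Group G] {S : Set G} (h3 : ∀ a ∈ S, a ^ 3 = 1)
    (hc : ∀ a ∈ S, ∀ b ∈ S, Commute a b) : ∀ x ∈ Subgroup.closure S, x ^ 3 = 1 := by
  intro x hx
  induction hx using Subgroup.closure_induction with
  | mem a ha => exact h3 a ha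
  | one => exact one_pow 3
  | mul u v hu hv iu iv => rw [(closure_commute hc u hu v hv).mul_pow, iu, iv, one_mul]
  | inv u _ iu => rw [inv_pow, iu, inv_one]

namespace Elems

variable (E : Elems)
include E

theorem length_le_card (K : Subgroup ↥Spor.Co3) (ws : List (List ℕ))
    (hnd : (ws.map fun w => evalPV allTabs w (unitL 0)).Nodup)
    (hK : ∀ w ∈ ws, word E.L w ∈ K) : ws.length ≤ Nat.card K := by
  classical
  haveI := finite_Co3
  have hv : ∀ w, vecL ((emb (word E.L w) • frame (pt 0) : leechLattice) : GolayPt → ℤ) =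
      evalPV allTabs w (unitL 0) := fun w => by rw [E.vec, idx_pt (by norm_num)]
  have hnd' : (ws.map (word E.L)).Nodup := by
    refine List.Nodup.of_map
      (fun x => vecL ((emb x • frame (pt 0) : leechLattice) : GolayPt → ℤ)) ?_
    rw [List.map_map]
    convert hnd using 1
    exact List.map_congr_left fun w _ => hv w
  have hle : (↑(ws.map (word E.L)).toFinset : Set ↥Spor.Co3) ⊆ (K : Set ↥Spor.Co3) := by
    intro x hx
    rw [Finset.mem_coe, List.mem_toFinset, List.mem_map] at hx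
    obtain ⟨w, hw, rfl⟩ := hx
    exact hK w hw
  have h := Set.ncard_le_ncard hle (Set.toFinite _)
  rw [Set.ncard_coe_finset, List.toFinset_card_of_nodup hnd', List.length_map] at h
  exact h

/-- The local criterion at the prime 3. -/
theorem local_three {Γ : Type} [Group Γ] (σ : Γ →* ↥Spor.Co3) (hσ : Function.Surjective σ)
    (hc : σ.ker ≤ Subgroup.center Γ) :
    ∃ S : Subgroup ↥Spor.Co3, ¬ 3 ∣ S.index ∧ σ.ker ⊓ ⁅S.comap σ, S.comap σ⁆ = ⊥ := by
  haveI := finite_Co3
  obtain ⟨-, hrels, -, -, -⟩ := rels_check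
  obtain ⟨pA, pR, pAA, p89, pq8, pq9, prA⟩ := three_pattern
  have hr : ∀ {u v : List ℕ}, (u, v) ∈ relsThree → word E.L u = word E.L v :=
    fun h => E.rel hrels h
  set SA : Set ↥Spor.Co3 := {e | ∃ i < 5, E.el (2 + i) = e} with hSA
  set SR : Set ↥Spor.Co3 := {e | ∃ r < 2, E.el (8 + r) = e} with hSR
  have hA3 : ∀ a ∈ SA, a ^ 3 = 1 := by
    rintro _ ⟨i, hi, rfl⟩
    have h := hr (pA i hi).1
    simp only [word_cons, word_nil, mul_one, ← mul_assoc] at h
    rw [pow_succ, sq]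
    exact h
  have hR3 : ∀ r ∈ SR, r ^ 3 = 1 := by
    rintro _ ⟨r, hi, rfl⟩
    have h := hr (pR r hi).1
    simp only [word_cons, word_nil, mul_one, ← mul_assoc] at h
    rw [pow_succ, sq]
    exact h
  have hswap : ∀ i < 5, ∀ k < 5, i < k → Commute (E.el (2 + i)) (E.el (2 + k)) ∧
      ∃ h, h * E.el (2 + i) * h⁻¹ = E.el (2 + k) ∧ h * E.el (2 + k) * h⁻¹ = E.el (2 + i) := by
    intro i hi k hk hik
    obtain ⟨hcom, m, -, h1, h2⟩ := pAA i hi k hk hik
    replace hcom := hr hcom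
    replace h1 := hr h1
    replace h2 := hr h2
    simp only [word_cons, word_nil, mul_one] at hcom h1 h2
    exact ⟨hcom, E.el (11 + m), mul_inv_eq_iff_eq_mul.2 h1, mul_inv_eq_iff_eq_mul.2 h2⟩
  have hAA : ∀ a ∈ SA, ∀ b ∈ SA,
      Commute a b ∧ (a = b ∨ ∃ h, h * a * h⁻¹ = b ∧ h * b * h⁻¹ = a) := by
    rintro _ ⟨i, hi, rfl⟩ _ ⟨k, hk, rfl⟩
    rcases lt_trichotomy i k with h | rfl | h
    · exact ⟨(hswap i hi k hk h).1, Or.inr (hswap i hi k hk h).2⟩
    · exact ⟨Commute.refl _, Or.inl rfl⟩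
    · obtain ⟨hcom, x, h1, h2⟩ := hswap k hk i hi h
      exact ⟨hcom.symm, Or.inr ⟨x, h2, h1⟩⟩
  have hca : ∀ a ∈ SA, E.el 7 * a * (E.el 7)⁻¹ = a⁻¹ := by
    rintro a ha
    obtain ⟨i, hi, rfl⟩ := ha
    have h := hr (pA i hi).2
    simp only [word_cons, word_nil, mul_one, ← mul_assoc] at h
    rw [mul_inv_eq_iff_eq_mul, h, eq_inv_of_mul_eq_one_left (a := E.el (2 + i) * E.el (2 + i))]
    rw [← sq, ← pow_succ]
    exact hA3 _ ⟨i, hi, rfl⟩
  have hcr : ∀ r ∈ SR, E.el 7 * r * (E.el 7)⁻¹ = r := by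
    rintro _ ⟨r, hi, rfl⟩
    have h := hr (pR r hi).2
    simp only [word_cons, word_nil, mul_one] at h
    exact mul_inv_eq_iff_eq_mul.2 h
  have hRR : ∀ r ∈ SR, ∀ s ∈ SR, Commute r s ∧ (r = s ∨
      (∃ q, q * r * q⁻¹ = r⁻¹ ∧ q * s * q⁻¹ = s) ∨ ∃ q, q * r * q⁻¹ = r ∧ q * s * q⁻¹ = s⁻¹) := by
    have e89 := hr p89
    have eq8 := hr pq8
    have eq9 := hr pq9
    simp only [word_cons, word_nil, mul_one, ← mul_assoc] at e89 eq8 eq9
    have i8 : E.el 10 * E.el 8 * (E.el 10)⁻¹ = (E.el 8)⁻¹ := by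
      rw [mul_inv_eq_iff_eq_mul, eq8, eq_inv_of_mul_eq_one_left (a := E.el 8 * E.el 8)]
      rw [← sq, ← pow_succ]
      exact hR3 _ ⟨0, by norm_num, rfl⟩
    have i9 : E.el 10 * E.el 9 * (E.el 10)⁻¹ = E.el 9 := mul_inv_eq_iff_eq_mul.2 eq9
    rintro _ ⟨r, hr', rfl⟩ _ ⟨s, hs', rfl⟩
    interval_cases r <;> interval_cases s
    · exact ⟨Commute.refl _, Or.inl rfl⟩
    · exact ⟨e89, Or.inr (Or.inl ⟨_, i8, i9⟩)⟩
    · exact ⟨e89.symm, Or.inr (Or.inr ⟨_, i9, i8⟩)⟩
    · exact ⟨Commute.refl _, Or.inl rfl⟩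
  have hnorm : ∀ r ∈ SR, ∀ a ∈ SA, r * a * r⁻¹ ∈ Subgroup.closure SA := by
    rintro _ ⟨r, hr', rfl⟩ _ ⟨i, hi, rfl⟩
    obtain ⟨⟨p1, p2⟩, hp, e1, e2, he⟩ := prA r hr' i hi
    have h := hr hp
    dsimp only at e1 e2 he h
    rw [e1, e2, word_append] at h
    simp only [word_cons, word_nil, mul_one] at h
    rw [mul_inv_eq_iff_eq_mul.2 h]
    refine word_mem_of (S := (Subgroup.closure SA).toSubmonoid) _ _ fun e hmem => ?_
    obtain ⟨h2, h7⟩ := he e hmem
    exact Subgroup.subset_closure ⟨e - 2, by omega, by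
      show E.L.getD (2 + (e - 2)) 1 = _
      rw [show 2 + (e - 2) = e by omega]⟩
  refine ⟨Subgroup.closure (SA ∪ SR), ?_,
    split_inverted σ hc hσ SA SR (E.el 7) hA3 hR3 hAA hRR hca hcr hnorm⟩
  set A := Subgroup.closure SA with hA
  set R := Subgroup.closure SR with hR
  have eA := closure_pow_three hA3 fun a ha b hb => (hAA a ha b hb).1
  have eR := closure_pow_three hR3 fun a ha b hb => (hRR a ha b hb).1
  haveI : Fact (Nat.Prime 3) := ⟨by norm_num⟩
  have pgA : IsPGroup 3 A := fun x => ⟨1, Subtype.ext (by simpa using eA x.1 x.2)⟩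
  have pgR : IsPGroup 3 R := fun x => ⟨1, Subtype.ext (by simpa using eR x.1 x.2)⟩
  have hconj : ∀ r ∈ SR, ∀ a ∈ A, r * a * r⁻¹ ∈ A := by
    intro r hr' a ha
    induction ha using Subgroup.closure_induction with
    | mem x hx => exact hnorm r hr' x hx
    | one => rw [mul_one, mul_inv_cancel]; exact A.one_mem
    | mul u v _ _ iu iv =>
      rw [show r * (u * v) * r⁻¹ = r * u * r⁻¹ * (r * v * r⁻¹) by group]
      exact A.mul_mem iu iv
    | inv u _ iu =>
      rw [show r * u⁻¹ * r⁻¹ = (r * u * r⁻¹)⁻¹ by group]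
      exact A.inv_mem iu
  have hRN : R ≤ Subgroup.normalizer (A : Set ↥Spor.Co3) := by
    refine (Subgroup.closure_le _).2 fun r hr' => ?_
    rw [SetLike.mem_coe, Subgroup.mem_normalizer_iff]
    refine fun a => ⟨hconj r hr' a, fun h => ?_⟩
    have h' := hconj r hr' _ (hconj r hr' _ h)
    rwa [show r * (r * (r * a * r⁻¹) * r⁻¹) * r⁻¹ = r * r * r * a * (r * r * r)⁻¹ by group,
      show r * r * r = 1 by rw [← hR3 r hr', pow_succ, sq], one_mul, inv_one, mul_one] at h'
  have pgS : IsPGroup 3 (Subgroup.closure (SA ∪ SR)) := by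
    rw [Subgroup.closure_union]
    exact IsPGroup.to_sup_of_normal_left' pgA pgR hRN
  have hdisj : Disjoint A R := by
    rw [Subgroup.disjoint_def]
    intro x hxA hxR
    have h1 : E.el 7 * x * (E.el 7)⁻¹ = x⁻¹ := by
      refine Subgroup.closure_induction (p := fun x _ => E.el 7 * x * (E.el 7)⁻¹ = x⁻¹)
        hca (by simp) ?_ ?_ hxA
      · intro u v hu hv iu iv
        rw [show E.el 7 * (u * v) * (E.el 7)⁻¹ =
          E.el 7 * u * (E.el 7)⁻¹ * (E.el 7 * v * (E.el 7)⁻¹) by group, iu, iv, mul_inv_rev]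
        exact ((closure_commute (fun a ha b hb => (hAA a ha b hb).1) u hu v hv).inv_inv).eq
      · intro u _ iu
        rw [show E.el 7 * u⁻¹ * (E.el 7)⁻¹ = (E.el 7 * u * (E.el 7)⁻¹)⁻¹ by group, iu]
    have h2 : E.el 7 * x * (E.el 7)⁻¹ = x := by
      refine Subgroup.closure_induction (p := fun x _ => E.el 7 * x * (E.el 7)⁻¹ = x)
        hcr (by simp) ?_ ?_ hxR
      · intro u v _ _ iu iv
        rw [show E.el 7 * (u * v) * (E.el 7)⁻¹ =
          E.el 7 * u * (E.el 7)⁻¹ * (E.el 7 * v * (E.el 7)⁻¹) by group, iu, iv]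
      · intro u _ iu
        rw [show E.el 7 * u⁻¹ * (E.el 7)⁻¹ = (E.el 7 * u * (E.el 7)⁻¹)⁻¹ by group, iu]
    have h3 : x * x = 1 := mul_eq_one_iff_eq_inv.2 (h2.symm.trans h1)
    have h4 := eA x hxA
    rwa [pow_succ, sq, h3, one_mul] at h4
  obtain ⟨hndA, hndR, hinA, hinR⟩ := three_check
  have cA : 243 ≤ Nat.card A := by
    refine le_trans (le_of_eq (by simp [aWords])) (E.length_le_card A aWords hndA fun w hw =>
      word_mem_of (S := A.toSubmonoid) _ w fun i hi => ?_)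
    obtain ⟨h2, h7⟩ := hinA w hw i hi
    exact Subgroup.subset_closure ⟨i - 2, by omega, by
      show E.L.getD (2 + (i - 2)) 1 = _
      rw [show 2 + (i - 2) = i by omega]⟩
  have cR : 9 ≤ Nat.card R := by
    refine le_trans (le_of_eq (by simp [rWords])) (E.length_le_card R rWords hndR fun w hw =>
      word_mem_of (S := R.toSubmonoid) _ w fun i hi => ?_)
    rcases hinR w hw i hi with rfl | rfl
    · exact Subgroup.subset_closure ⟨0, by norm_num, rfl⟩
    · exact Subgroup.subset_closure ⟨1, by norm_num, rfl⟩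
  have cS : 3 ^ 7 ≤ Nat.card (Subgroup.closure (SA ∪ SR)) := by
    refine le_trans (le_trans (by norm_num : 3 ^ 7 ≤ 243 * 9) (Nat.mul_le_mul cA cR)) ?_
    rw [← Nat.card_prod]
    refine Nat.card_le_card_of_injective (fun p : A × R => (⟨p.1.1 * p.2.1,
      mul_mem (Subgroup.closure_mono Set.subset_union_left p.1.2)
        (Subgroup.closure_mono Set.subset_union_right p.2.2)⟩ : Subgroup.closure (SA ∪ SR))) ?_
    intro p q h
    exact Subgroup.mul_injective_of_disjoint hdisj (congrArg Subtype.val h)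
  obtain ⟨n, hn⟩ := pgS.exists_card_eq
  have hn7 : 7 ≤ n := by
    rw [hn] at cS
    exact (Nat.pow_le_pow_iff_right (by norm_num : 1 < 3)).1 cS
  intro hdvd
  have h := Nat.mul_dvd_mul ((pow_dvd_pow 3 hn7).trans (dvd_of_eq hn.symm)) hdvd
  rw [Subgroup.card_mul_index, card_Co3] at h
  norm_num at h

/-- The local criterion at the prime 5. -/
theorem local_five {Γ : Type} [Group Γ] (σ : Γ →* ↥Spor.Co3) (hσ : Function.Surjective σ)
    (hc : σ.ker ≤ Subgroup.center Γ) :
    ∃ S : Subgroup ↥Spor.Co3, ¬ 5 ∣ S.index ∧ σ.ker ⊓ ⁅S.comap σ, S.comap σ⁆ = ⊥ := by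
  haveI := finite_Co3
  obtain ⟨-, -, hrels, hrels', hne⟩ := rels_check
  set u := E.el 21 with hu'
  set v := E.el 22 with hv'
  set h := E.el 23 with hh'
  have e1 := E.rel hrels (u := [21, 21, 21, 21, 21]) (v := []) (by simp [relsFive])
  have e2 := E.rel hrels (u := [22, 22, 22, 22, 22]) (v := []) (by simp [relsFive])
  have e3 := E.rel hrels (u := [23, 21]) (v := [21, 21, 21, 21, 23]) (by simp [relsFive])
  have e4 := E.rel hrels (u := [23, 22]) (v := [22, 22, 22, 22, 23]) (by simp [relsFive])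
  simp only [word_cons, word_nil, mul_one, ← mul_assoc] at e1 e2 e3 e4
  have hu : u ^ 5 = 1 := by rw [pow_succ, pow_succ, pow_succ, sq]; exact e1
  have hv : v ^ 5 = 1 := by rw [pow_succ, pow_succ, pow_succ, sq]; exact e2
  have hw : word E.L comm5 = ⁅u, v⁆ := by
    have iu : u⁻¹ = u ^ 4 := inv_eq_of_mul_eq_one_right (by rw [← pow_succ']; exact hu)
    have iv : v⁻¹ = v ^ 4 := inv_eq_of_mul_eq_one_right (by rw [← pow_succ']; exact hv)
    rw [commutatorElement_def, iu, iv]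
    simp only [comm5, word_cons, word_nil, mul_one, pow_succ, pow_zero, one_mul, ← mul_assoc,
      hu', hv']
  have hcomm : ∀ i ∈ [21, 22, 23], Commute ⁅u, v⁆ (E.el i) := by
    intro i hi
    have h5 := E.rel hrels' (u := comm5 ++ [i]) (v := i :: comm5) (List.mem_map.2 ⟨i, hi, rfl⟩)
    rw [word_append, word_cons, word_cons, word_nil, mul_one, hw] at h5
    exact h5
  refine PresMult70.criterion_extraspecial σ hσ hc (p := 5) (a := 4) (b := 4) (by norm_num)
    (u := u) (v := v) (h := h) hu hv (hw ▸ E.word_ne_one hne) (hcomm 21 (by simp))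
    (hcomm 22 (by simp)) ?_ ?_ (hcomm 23 (by simp)).symm (by decide) (by decide) ?_
  · rw [mul_inv_eq_iff_eq_mul, hu', hh', e3]
    simp only [pow_succ, pow_zero, one_mul]
  · rw [mul_inv_eq_iff_eq_mul, hv', hh', e4]
    simp only [pow_succ, pow_zero, one_mul]
  · rw [card_Co3]
    norm_num

end Elems

end Cfsg.Agent.CoMult35
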