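import Cfsg.Agent.CoMult35.Two
import Cfsg.Agent.CoMult35.Odd

/-!
# The Schur multiplier of Co₃ is trivial
-/

set_option autoImplicit false

namespace Cfsg.Agent.CoMult35

open Cfsg
open Cfsg.Agent.SporStruct.OuterCo3 (card_Co3)

theorem sq_not_dvd_card_Co3 {ℓ : ℕ} (hℓ : ℓ.Prime) (h2 : ℓ ≠ 2) (h3 : ℓ ≠ 3) (h5 : ℓ ≠ 5) :
    ¬ ℓ ^ 2 ∣ Nat.card ↥Spor.Co3 := by
  rw [card_Co3, show 10200960 * 48600 = (2 ^ 10 * 3 ^ 7 * 5 ^ 3) * (7 * (11 * 23)) by norm_num]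
  intro h
  have cop : ∀ q, q.Prime → ℓ ≠ q → Nat.Coprime ℓ q := fun q hq hne =>
    (Nat.coprime_primes hℓ hq).2 hne
  have hcop : Nat.Coprime (ℓ ^ 2) (2 ^ 10 * 3 ^ 7 * 5 ^ 3) :=
    ((Nat.Coprime.pow 2 10 (cop 2 Nat.prime_two h2)).mul_right
      (Nat.Coprime.pow 2 7 (cop 3 Nat.prime_three h3))).mul_right
      (Nat.Coprime.pow 2 3 (cop 5 Nat.prime_five h5))
  have h' := hcop.dvd_of_dvd_mul_left h
  have hd : ℓ ∣ 7 * (11 * 23) := (dvd_pow_self ℓ two_ne_zero).trans h'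
  rcases hℓ.dvd_mul.1 hd with hd | hd
  · rw [(Nat.prime_dvd_prime_iff_eq hℓ (by norm_num)).1 hd] at h'
    norm_num at h'
  rcases hℓ.dvd_mul.1 hd with hd | hd
  · rw [(Nat.prime_dvd_prime_iff_eq hℓ (by norm_num)).1 hd] at h'
    norm_num at h'
  · rw [(Nat.prime_dvd_prime_iff_eq hℓ (by norm_num)).1 hd] at h'
    norm_num at h'

/-- The Schur multiplier of Co₃ is trivial. -/
theorem hasCyclicSchurMultiplier_Co3 : Cfsg.HasCyclicSchurMultiplier ↥Cfsg.Spor.Co3 1 := by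
  haveI := finite_Co3
  obtain ⟨E⟩ := nonempty_elems
  refine Cfsg.Agent.Schur.hasCyclicSchurMultiplier_one_of_forall fun Γ _ _ σ hσ => ?_
  refine PresMult70.ker_eq_bot σ hσ (fun ℓ hℓ h2 => ?_) fun Δ _ _ τ hτ hk =>
    E.eq_bot_of_exp_two τ hτ hk
  by_cases h3 : ℓ = 3
  · subst h3
    exact E.local_three σ hσ.1 hσ.2.1
  by_cases h5 : ℓ = 5
  · subst h5
    exact E.local_five σ hσ.1 hσ.2.1
  exact Cfsg.Agent.Golay.Mult.exists_local_of_sq_not_dvd σ hσ.1 hσ.2.1 hℓ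
    (sq_not_dvd_card_Co3 hℓ h2 h3 h5)

end Cfsg.Agent.CoMult35
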