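import Cfsg.Agent.CoMult35.Facts
import Cfsg.Agent.CoMult35.Lift
import Mathlib.GroupTheory.GroupAction.Quotient

/-!
# Stem extensions of Co₃ with kernel of exponent two
-/

set_option autoImplicit false
set_option maxRecDepth 100000

namespace Cfsg.Agent.CoMult35

open Cfsg Cfsg.Agent.Leech Cfsg.Agent.SporStruct CoMatrix
open Cfsg.Agent.Golay (Tab pt idx idx_pt idTab tab_one comp powTab)
open Cfsg.Agent.Golay.Mult (tab_coe_mul tab_coe_pow eq_of_tab eq_one_of_tab tabSet allProd
  card_closure_tabSet)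
open Cfsg.Agent.SporStruct.OuterCo3 (emb emb_injective card_Co3)

namespace Elems

variable (E : Elems)
include E

/-- The double coset decomposition of the heptad stabiliser. -/
theorem gen_three_cases (k : Spor.M23) (hk : k ∈ E.gen 3) :
    k ∈ E.gen 2 ∨ ∃ a ∈ E.gen 2, ∃ b ∈ E.gen 2, k = a * E.pm 2 * b := by
  obtain ⟨-, hact⟩ := coset_check
  let R : ℕ → Spor.M23 := fun r =>
    if r = 0 then 1 else word (E.F.take 2) (repWords.getD (r - 1) []) * E.pm 2
  have hR : ∀ r < 7, Tab (R r).1 (reps.getD r []) := by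
    intro r hr
    rcases r with _ | r
    · exact tab_one
    · have h1 : reps.getD (r + 1) [] =
          comp (wordTab (perms.take 2) (repWords.getD r [])) (perms.getD 2 []) := by
        have hr6 : r < 6 := by omega
        interval_cases r <;> rfl
      rw [h1]
      exact tab_coe_mul (tab_word (E.tab_take 2) _) (E.hF 2)
  let S : Set Spor.M23 := {y | ∃ r < 7, ∃ t ∈ E.gen 2, y = R r * t}
  have hS : ∀ g < 3, ∀ y ∈ S, E.pm g * y ∈ S := by
    rintro g hg y ⟨r, hr, t, ht, rfl⟩
    obtain ⟨hlt, heq⟩ := hact g hg r hr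
    refine ⟨_, hlt, word (E.F.take 2) ((cosetAct.getD g []).getD r (0, [])).2 * t,
      (E.gen 2).mul_mem (E.word_mem_gen 2 _) ht, ?_⟩
    have hp : perms.getD g [] = perms.getD g idTab := by interval_cases g <;> rfl
    rw [← mul_assoc, ← mul_assoc]
    congr 1
    refine eq_of_tab (l := comp (perms.getD g []) (reps.getD r [])) ?_ ?_
    · exact tab_coe_mul (hp ▸ E.hF g) (hR r hr)
    · rw [heq]
      exact tab_coe_mul (hR _ hlt) (tab_word (E.tab_take 2) _)
  have hk' : k ∈ S := by
    have hk2 : k ∈ Submonoid.closure {y | ∃ i < 3, E.pm i = y} := by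
      rw [← Subgroup.closure_toSubmonoid_of_finite]
      exact hk
    induction hk2 using Submonoid.closure_induction_left with
    | one => exact ⟨0, by norm_num, 1, (E.gen 2).one_mem, (one_mul 1).symm⟩
    | mul_left x hx y hy ih =>
      obtain ⟨g, hg, rfl⟩ := hx
      refine hS g hg y (ih ?_)
      have : y ∈ (E.gen 3).toSubmonoid := by
        rw [gen, Subgroup.closure_toSubmonoid_of_finite]
        exact hy
      exact this
  obtain ⟨r, hr, t, ht, rfl⟩ := hk'
  rcases Nat.eq_zero_or_pos r with rfl | hr0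
  · exact Or.inl (show (1 : Spor.M23) * t ∈ E.gen 2 by rwa [one_mul])
  · refine Or.inr ⟨_, E.word_mem_gen 2 (repWords.getD (r - 1) []), t, ht, ?_⟩
    show (if r = 0 then 1 else _) * t = _
    rw [if_neg (by omega)]

theorem perm_mem_gen {i : ℕ} (hi : i < 4) : E.pm (3 + i) ∈ E.gen 3 := by
  obtain ⟨-, -, -, -, -, hw⟩ := perms_check
  have h : Tab (word (E.F.take 3) (permWords.getD i [])).1 (perms.getD (3 + i) []) := by
    rw [← hw i hi]
    exact tab_word (E.tab_take 3) _
  have hp : perms.getD (3 + i) [] = perms.getD (3 + i) idTab := by interval_cases i <;> rfl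
  show E.F.getD (3 + i) 1 ∈ _
  rw [eq_of_tab (E.hF (3 + i)) (hp ▸ h)]
  exact E.word_mem_gen 3 _

theorem card_two_dvd (P : Subgroup ↥Spor.Co3) (hK : ∀ k ∈ E.gen 3, j k ∈ P) (hx : E.el 0 ∈ P) :
    2 ^ 10 ∣ Nat.card P := by
  haveI := finite_Co3
  obtain ⟨hmap, hnd, hlen, h0, hin, hclosed, -⟩ := clique_check
  simp only [List.all_eq_true, List.contains_iff_mem] at hclosed
  set H : Subgroup ↥Spor.Co3 := Subgroup.closure {y | ∃ i ∈ [0, 24, 25, 26], E.el i = y} with hH
  have hHP : H ≤ P := by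
    refine (Subgroup.closure_le _).2 ?_
    rintro _ ⟨i, hi, rfl⟩
    simp only [List.mem_cons, List.not_mem_nil, or_false] at hi
    rcases hi with rfl | rfl | rfl | rfl
    · exact hx
    · show E.L.getD (24 + 0) 1 ∈ P
      rw [← E.hFL 0 (by norm_num)]
      exact hK _ (E.pm_mem (by norm_num))
    · show E.L.getD (24 + 1) 1 ∈ P
      rw [← E.hFL 1 (by norm_num)]
      exact hK _ (E.pm_mem (by norm_num))
    · show E.L.getD (24 + 2) 1 ∈ P
      rw [← E.hFL 2 (by norm_num)]
      exact hK _ (E.pm_mem (by norm_num))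
  refine dvd_trans ?_ (Subgroup.card_dvd_of_le hHP)
  letI : MulAction ↥Spor.Co3 leechLattice := MulAction.compHom _ emb
  have hact : ∀ (g : ↥Spor.Co3) (v : leechLattice), g • v = emb g • v := fun _ _ => rfl
  -- the orbit
  let f : List ℕ → leechLattice := fun w => word E.L w • frame none
  have hf : ∀ w, vecL (f w : GolayPt → ℤ) = evalPV allTabs w (unitL 23) := fun w => by
    show vecL ((emb (word E.L w) • frame none : leechLattice) : GolayPt → ℤ) = _
    rw [E.vec none w]
    rfl
  let O : Set leechLattice := {v | ∃ w ∈ cliqueWords, f w = v}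
  have hwH : ∀ w ∈ cliqueWords, word E.L w ∈ H := fun w hw =>
    word_mem_of (S := H.toSubmonoid) _ w fun i hi => Subgroup.subset_closure ⟨i, hin w hw i hi, rfl⟩
  have horbit : MulAction.orbit H (frame none) = O := by
    refine Set.Subset.antisymm ?_ ?_
    · rintro _ ⟨⟨h, hh⟩, rfl⟩
      show h • frame none ∈ O
      have hh' : h ∈ Submonoid.closure {y | ∃ i ∈ [0, 24, 25, 26], E.el i = y} := by
        rw [← Subgroup.closure_toSubmonoid_of_finite]
        exact hh
      clear hh
      induction hh' using Submonoid.closure_induction_left with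
      | one =>
        refine ⟨[], ?_, ?_⟩
        · have hm : cliqueWords.getD 0 [1] ∈ cliqueWords := by
            rw [List.getD_eq_getElem _ _ (by decide)]
            exact List.getElem_mem _
          rwa [h0] at hm
        · rfl
      | mul_left x hxmem y hy ih =>
        obtain ⟨i, hi, rfl⟩ := hxmem
        obtain ⟨w, hw, hw'⟩ := ih
        have hmem := hclosed i hi w hw
        rw [← hmap, List.mem_map] at hmem
        obtain ⟨w', hw'', he⟩ := hmem
        refine ⟨w', hw'', Subtype.ext (vecL_inj ?_)⟩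
        rw [hf, he, ← hf, show f (i :: w) = (E.el i * word E.L w) • frame none from rfl, mul_smul,
          mul_smul]
        exact congrArg (fun v : leechLattice => vecL ((E.el i • v : leechLattice) : GolayPt → ℤ)) hw'
    · rintro _ ⟨w, hw, rfl⟩
      exact ⟨⟨word E.L w, hwH w hw⟩, rfl⟩
  have hncard : (MulAction.orbit H (frame none)).ncard = 8 := by
    classical
    have hO : O = ↑(cliqueWords.map f).toFinset := by
      ext v
      simp [O]
    have hnd' : (cliqueWords.map f).Nodup := by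
      refine List.Nodup.of_map (fun v : leechLattice => vecL (v : GolayPt → ℤ)) ?_
      rw [List.map_map, show List.map ((fun v : leechLattice => vecL (v : GolayPt → ℤ)) ∘ f)
        cliqueWords = cliqueWords.map (fun w => evalPV allTabs w (unitL 23)) from
        List.map_congr_left fun w _ => hf w, hmap]
      exact hnd
    rw [horbit, hO, Set.ncard_coe_finset, List.toFinset_card_of_nodup hnd', List.length_map]
    rfl
  -- the stabiliser
  obtain ⟨hs1, hs2, hs3, hs4, hs5⟩ := syl_check
  have htabs : ∀ t ∈ sylTabs, ∃ g : Spor.M23, g ∈ E.gen 3 ∧ Tab g.1 t := by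
    intro t ht
    obtain ⟨w, -, rfl⟩ := List.mem_map.1 ht
    exact ⟨_, E.word_mem_gen 3 w, tab_word (E.tab_take 3) w⟩
  set S₂ : Subgroup Spor.M23 := Subgroup.closure (tabSet Spor.M23 sylTabs) with hS₂
  have hcardS : Nat.card S₂ = 128 :=
    (card_closure_tabSet sylTabs (fun t ht => (htabs t ht).imp fun _ h => h.2) hs1 hs2 hs3 hs4).1.trans
      hs5
  have hS₂H : S₂.map j ≤ H := by
    have hle : S₂ ≤ E.gen 3 := by
      refine (Subgroup.closure_le _).2 ?_
      rintro g ⟨t, ht, hgt⟩
      obtain ⟨g', hg', hgt'⟩ := htabs t ht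
      exact eq_of_tab hgt hgt' ▸ hg'
    refine (Subgroup.map_mono hle).trans ?_
    rw [gen, MonoidHom.map_closure, Subgroup.closure_le]
    rintro _ ⟨_, ⟨i, hi, rfl⟩, rfl⟩
    refine Subgroup.subset_closure ⟨24 + i, ?_, (E.hFL i (by omega)).symm⟩
    interval_cases i <;> simp
  have hstab : (S₂.map j).subgroupOf H ≤ MulAction.stabilizer H (frame none) := by
    intro h hh
    obtain ⟨s, -, hs⟩ := Subgroup.mem_subgroupOf.1 hh
    rw [MulAction.mem_stabilizer_iff]
    show emb h.1 • frame none = frame none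
    rw [← hs]
    exact j_frame s
  have h128 : 128 ∣ Nat.card (MulAction.stabilizer H (frame none)) := by
    refine dvd_trans (dvd_of_eq ?_) (Subgroup.card_dvd_of_le hstab)
    rw [Nat.card_congr (Subgroup.subgroupOfEquivOfLe hS₂H).toEquiv,
      ← Nat.card_congr (S₂.equivMapOfInjective j j_injective).toEquiv, hcardS]
  rw [← Subgroup.card_mul_index (MulAction.stabilizer H (frame none)), MulAction.index_stabilizer,
    hncard, show (2 : ℕ) ^ 10 = 128 * 8 by norm_num]
  exact Nat.mul_dvd_mul_right h128 8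

theorem eq_bot_of_exp_two {Γ : Type} [Group Γ] [Finite Γ] (σ : Γ →* ↥Spor.Co3)
    (hσ : Cfsg.IsStemExtension σ) (h2 : ∀ k ∈ σ.ker, k * k = 1) : σ.ker = ⊥ := by
  haveI := finite_Co3
  obtain ⟨s, hs⟩ := exists_section σ hσ.1 hσ.2.1
  have hr : ∀ {u v : List ℕ}, (u, v) ∈ relsTwo → word E.L u = word E.L v :=
    fun h => E.rel rels_check.1 h
  obtain ⟨-, -, h5, h3, h77, -⟩ := perms_check
  have hj : ∀ {i : ℕ}, i < 8 → E.el (24 + i) = j (E.pm i) := fun h => (E.hFL _ h).symm
  have e00 := hr (u := [0, 0]) (v := []) (by simp [relsTwo])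
  have ea := hr (u := [0, 24, 0]) (v := [27]) (by simp [relsTwo])
  have eb := hr (u := [0, 25, 0]) (v := [28]) (by simp [relsTwo])
  have em := hr (u := [0, 26, 0]) (v := [29, 0, 30]) (by simp [relsTwo])
  have eg := hr (u := [0, 1]) (v := [1, 31]) (by simp [relsTwo])
  simp only [word_cons, word_nil, mul_one, ← mul_assoc] at e00 ea eb em eg
  have hxJ : ∀ y, j y ≠ E.el 0 := by
    intro y hy
    obtain ⟨-, -, -, -, -, -, hne⟩ := clique_check
    have h := E.vec none [0]
    rw [word_cons, word_nil, mul_one, show E.L.getD 0 1 = j y from hy.symm, j_frame,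
      vecL_frame] at h
    exact hne (h.symm.trans rfl)
  obtain ⟨P, hKP, hxP, hP⟩ := split_swap σ hσ.2.1 (fun k hk => h2 k hk) s j hs j_injective
    (E.gen 3) {y | ∃ i < 2, E.pm i = y}
    (fun _ ⟨_, hi, e⟩ => e ▸ E.pm_mem (hi.trans (by norm_num))) (E.pm 2) E.gen_three_cases
    (E.el 0) (E.el 1) (E.pm 7) (eq_one_of_tab (h77 ▸ tab_coe_mul (E.hF 7) (E.hF 7)))
    (by rw [← hj (by norm_num : 7 < 8)]; exact eg) e00 hxJ
    (by
      rintro _ ⟨i, hi, rfl⟩
      interval_cases i
      · refine ⟨⟨5, by decide, eq_one_of_tab (h5 ▸ tab_coe_pow (E.hF 0) 5)⟩, E.pm (3 + 0),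
          E.perm_mem_gen (by norm_num), ?_⟩
        rw [← hj (by norm_num : 0 < 8), ← hj (by norm_num : 3 + 0 < 8)]
        exact ea
      · refine ⟨⟨3, by decide, eq_one_of_tab (h3 ▸ tab_coe_pow (E.hF 1) 3)⟩, E.pm (3 + 1),
          E.perm_mem_gen (by norm_num), ?_⟩
        rw [← hj (by norm_num : 1 < 8), ← hj (by norm_num : 3 + 1 < 8)]
        exact eb)
    (E.pm (3 + 2)) (E.pm (3 + 3)) (E.perm_mem_gen (by norm_num)) (E.perm_mem_gen (by norm_num))
    (by
      rw [← hj (by norm_num : 2 < 8), ← hj (by norm_num : 3 + 2 < 8), ← hj (by norm_num : 3 + 3 < 8)]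
      exact em) hσ.1
  have hodd : Odd P.index := by
    rw [Nat.odd_iff, ← Nat.two_dvd_ne_zero]
    intro hdvd
    have h := Nat.mul_dvd_mul (E.card_two_dvd P hKP hxP) hdvd
    rw [Subgroup.card_mul_index, card_Co3] at h
    norm_num at h
  rw [eq_bot_iff]
  intro k hk
  have hmem := Cfsg.Agent.Schur.pow_index_mem_commutator (P.comap σ) (hσ.2.1 hk) (hσ.2.2 hk)
  rw [Subgroup.map_subtype_commutator, Subgroup.index_comap_of_surjective P hσ.1] at hmem
  have : k ^ P.index ∈ σ.ker ⊓ ⁅P.comap σ, P.comap σ⁆ := ⟨pow_mem hk _, hmem⟩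
  rw [hP, Subgroup.mem_bot] at this
  obtain ⟨n, hn⟩ := hodd
  rw [hn, pow_succ, pow_mul, sq, h2 k hk, one_pow, one_mul] at this
  exact Subgroup.mem_bot.2 this

end Elems

end Cfsg.Agent.CoMult35
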